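import Mathlib

/-!
A group of odd order acting fixed-point-freely on a nontrivial group of coprime order
has cyclic Sylow subgroups.
-/

set_option autoImplicit false

namespace Cfsg.Agent.CharDeep.Zass

open Finset in
/-- Two commuting elements `a`, `b` of prime order `p` with `a ∉ ⟨b⟩` cannot both, together
with all products `a ^ i * b ^ j`, act fixed-point-freely on a nontrivial abelian group of order
prime to `p`. -/
theorem false_of_fpf_pair {V M : Type*} [Group V] [CommGroup M] [Finite M] [Nontrivial M]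
    [MulDistribMulAction V M] {p : ℕ} (hp : p.Prime) (hM : (Nat.card M).Coprime p)
    (a b : V) (hab : Commute a b) (ha : a ^ p = 1) (hb : b ^ p = 1)
    (hfb : ∀ x : M, b • x = x → x = 1)
    (hfab : ∀ i < p, ∀ x : M, (a * b ^ i) • x = x → x = 1) : False := by
  have key : ∀ c : V, c ^ p = 1 → (∀ x : M, c • x = x → x = 1) →
      ∀ y : M, ∏ j ∈ range p, c ^ j • y = 1 := by
    intro c hc hf y
    apply hf
    rw [smul_prod']
    obtain ⟨q, rfl⟩ : ∃ q, p = q + 1 := ⟨p - 1, by have := hp.pos; omega⟩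
    rw [prod_range_succ, prod_range_succ' (fun j => c ^ j • y)]
    simp only [smul_smul, ← pow_succ']
    rw [hc, pow_zero]
  obtain ⟨x, hx⟩ := exists_ne (1 : M)
  have h1 : ∏ i ∈ range p, ∏ j ∈ range p, (a * b ^ i) ^ j • x = 1 := by
    refine prod_eq_one fun i hi => key _ ?_ (hfab i (mem_range.1 hi)) x
    rw [(hab.pow_right i).mul_pow, ha, one_mul, ← pow_mul, mul_comm, pow_mul, hb, one_pow]
  rw [prod_comm] at h1
  obtain ⟨q, hq⟩ : ∃ q, p = q + 1 := ⟨p - 1, by have := hp.pos; omega⟩
  rw [hq, prod_range_succ'] at h1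
  have h0 : ∏ i ∈ range (q + 1), (a * b ^ i) ^ 0 • x = x ^ p := by simp [hq]
  rw [h0] at h1
  have h2 : ∏ j ∈ range q, ∏ i ∈ range (q + 1), (a * b ^ i) ^ (j + 1) • x = 1 := by
    refine prod_eq_one fun j hj => ?_
    rw [mem_range] at hj
    have e1 : ∀ i, (a * b ^ i) ^ (j + 1) • x = (b ^ (j + 1)) ^ i • (a ^ (j + 1) • x) := by
      intro i
      rw [smul_smul, (hab.pow_right i).mul_pow, ← pow_mul, ← pow_mul, mul_comm i (j + 1)]
      exact congrArg (· • x) ((hab.pow_left (j + 1)).pow_right ((j + 1) * i)).eq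
    simp only [e1]
    rw [← hq]
    refine key _ (by rw [← pow_mul, mul_comm, pow_mul, hb, one_pow]) ?_ _
    intro z hz
    apply hfb
    -- `b` is a power of `b ^ (j + 1)`
    have hcop : (j + 1).Coprime p := by
      rw [Nat.coprime_comm, hp.coprime_iff_not_dvd]
      intro hd
      have := Nat.le_of_dvd (by omega) hd
      omega
    obtain ⟨m, hm⟩ := exists_pow_eq_self_of_coprime (x := b) (n := j + 1)
      (hcop.coprime_dvd_right (orderOf_dvd_of_pow_eq_one hb))
    rw [← hm]
    have : ∀ m : ℕ, (b ^ (j + 1)) ^ m • z = z := by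
      intro m
      induction m with
      | zero => simp
      | succ m ih => rw [pow_succ, mul_smul, hz, ih]
    exact this m
  rw [h2, one_mul] at h1
  apply hx
  have h3 : orderOf x ∣ p := orderOf_dvd_of_pow_eq_one h1
  have h4 : orderOf x ∣ Nat.card M := orderOf_dvd_natCard x
  exact orderOf_eq_one_iff.1 (Nat.eq_one_of_dvd_coprimes hM h4 h3)

/-- Modular geometric sums: for `p` an odd prime and `r ≡ 1 mod p`,
`1 + r + ... + r ^ (p - 1) = p * u` with `p ∤ u`. -/
theorem geom_sum_eq_mul_unit {p : ℕ} (hp : p.Prime) (hodd : Odd p) {r : ℕ}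
    (hr : r ≡ 1 [MOD p]) :
    ∃ u : ℕ, u.Coprime p ∧ ∑ i ∈ Finset.range p, r ^ i = p * u := by
  have hp0 := hp.pos
  -- `r ^ i ≡ 1 + i * (r - 1) mod p ^ 2`
  obtain ⟨k, hk⟩ : ∃ k : ℤ, (r : ℤ) = 1 + p * k := by
    have := (Int.natCast_modEq_iff.2 hr).symm.dvd
    obtain ⟨k, hk⟩ := this
    exact ⟨k, by push_cast at hk; linarith⟩
  have e : ∀ i : ℕ, ∃ c : ℤ, (r : ℤ) ^ i = 1 + i * (p * k) + (p : ℤ) ^ 2 * c := by
    intro i
    induction i with
    | zero => exact ⟨0, by simp⟩
    | succ i ih =>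
      obtain ⟨c, hc⟩ := ih
      refine ⟨i * k ^ 2 + c * (1 + p * k), ?_⟩
      rw [pow_succ, hc, hk]
      push_cast
      ring
  choose c hc using e
  obtain ⟨s, hs⟩ := hodd
  have hsum : ((∑ i ∈ Finset.range p, i : ℕ) : ℤ) = p * s := by
    have h2 := Finset.sum_range_id_mul_two p
    have h3 : p - 1 = 2 * s := by omega
    rw [h3] at h2
    have : (∑ i ∈ Finset.range p, i) = p * s := by nlinarith
    exact_mod_cast this
  have hS : ((∑ i ∈ Finset.range p, r ^ i : ℕ) : ℤ)
      = p * (1 + p * (s * k + ∑ i ∈ Finset.range p, c i)) := by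
    push_cast
    rw [Finset.sum_congr rfl fun i _ => hc i]
    push_cast at hsum
    rw [Finset.sum_add_distrib, Finset.sum_add_distrib, ← Finset.sum_mul, ← Finset.mul_sum,
      Finset.sum_const, Finset.card_range, hsum, nsmul_eq_mul]
    ring
  have hdvd : (p : ℤ) ∣ ((∑ i ∈ Finset.range p, r ^ i : ℕ) : ℤ) := ⟨_, hS⟩
  obtain ⟨u, hu⟩ := Int.natCast_dvd_natCast.1 hdvd
  refine ⟨u, ?_, hu⟩
  rw [hu] at hS
  push_cast at hS
  have hp' : (p : ℤ) ≠ 0 := by exact_mod_cast hp0.ne'
  have hu' : (u : ℤ) = 1 + p * (s * k + ∑ i ∈ Finset.range p, c i) :=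
    mul_left_cancel₀ hp' hS
  rw [Nat.coprime_comm, hp.coprime_iff_not_dvd]
  intro hd
  have hd' : (p : ℤ) ∣ (u : ℤ) := by exact_mod_cast hd
  rw [hu'] at hd'
  have : (p : ℤ) ∣ 1 := (dvd_add_left (dvd_mul_right _ _)).1 hd'
  have : p ∣ 1 := by exact_mod_cast this
  exact hp.ne_one (Nat.dvd_one.1 this)

/-- A finite `p`-group, `p` odd, without commuting independent elements of order `p` is cyclic. -/
theorem isCyclic_of_no_pair {p : ℕ} [hp : Fact p.Prime] (hodd : Odd p) {P : Type*} [Group P]
    [Finite P] (hP : IsPGroup p P)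
    (h : ∀ a b : P, Commute a b → orderOf a = p → orderOf b = p → a ∈ Subgroup.zpowers b) :
    IsCyclic P := by
  obtain ⟨n, hn⟩ := IsPGroup.iff_card.1 hP
  induction n generalizing P with
  | zero =>
    have : Subsingleton P := (Nat.card_eq_one_iff_unique.1 (by simpa using hn)).1
    infer_instance
  | succ n ih =>
    -- a normal subgroup of index `p`
    obtain ⟨Q, hQc⟩ := Sylow.exists_subgroup_card_pow_prime p
      (show p ^ n ∣ Nat.card P from hn ▸ pow_dvd_pow p (Nat.le_succ n))
    have hQi : Q.index = p := by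
      have h1 := Q.card_mul_index
      rw [hQc, hn, pow_succ] at h1
      exact Nat.eq_of_mul_eq_mul_left (pow_pos hp.out.pos n) h1
    have hQn : Q.Normal :=
      Subgroup.normal_of_index_eq_minFac_card (by
        rw [hn, Nat.pow_minFac (Nat.succ_ne_zero n), hp.out.minFac_eq, hQi])
    have hcyc : IsCyclic Q := by
      refine ih (hP.to_subgroup Q) ?_ hQc
      intro a b hab ha hb
      have := h (a : P) (b : P) (congrArg Subtype.val hab.eq)
        (by rw [Subgroup.orderOf_coe]; exact ha) (by rw [Subgroup.orderOf_coe]; exact hb)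
      obtain ⟨k, hk⟩ := Subgroup.mem_zpowers_iff.1 this
      exact Subgroup.mem_zpowers_iff.2 ⟨k, Subtype.ext (by simpa using hk)⟩
    rcases Nat.eq_zero_or_pos n with rfl | hn0
    · exact isCyclic_of_prime_card (p := p) (by simpa using hn)
    obtain ⟨y, hy⟩ : ∃ y, y ∉ Q := by
      by_contra hall
      push Not at hall
      have : Q = ⊤ := eq_top_iff.2 fun y _ => hall y
      rw [this, Subgroup.index_top] at hQi
      exact hp.out.ne_one hQi.symm
    obtain ⟨g, hg⟩ := hcyc.exists_generator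
    have hgord : orderOf (g : P) = p ^ n := by
      rw [Subgroup.orderOf_coe, orderOf_eq_card_of_forall_mem_zpowers hg, hQc]
    have memQ : ∀ q ∈ Q, ∃ i : ℕ, (g : P) ^ i = q := by
      intro q hq
      have := hg ⟨q, hq⟩
      rw [← mem_powers_iff_mem_zpowers, Submonoid.mem_powers_iff] at this
      obtain ⟨i, hi⟩ := this
      exact ⟨i, congrArg Subtype.val hi⟩
    obtain ⟨r, hr⟩ := memQ (y * g * y⁻¹) (hQn.conj_mem _ g.2 y)
    have hconj : ∀ k : ℕ, y ^ k * g * (y ^ k)⁻¹ = (g : P) ^ (r ^ k) := by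
      intro k
      induction k with
      | zero => simp
      | succ k ihk =>
        calc y ^ (k + 1) * g * (y ^ (k + 1))⁻¹ = y * (y ^ k * g * (y ^ k)⁻¹) * y⁻¹ := by
              rw [pow_succ', mul_inv_rev]; group
          _ = (y * g * y⁻¹) ^ (r ^ k) := by rw [ihk, conj_pow]
          _ = (g : P) ^ (r ^ (k + 1)) := by rw [← hr, ← pow_mul, ← pow_succ']
    have hypQ : y ^ p ∈ Q := by
      have := Q.pow_index_mem y
      rwa [hQi] at this
    obtain ⟨t, ht⟩ := memQ _ hypQ
    have hr1 : r ≡ 1 [MOD p] := by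
      have h1 : (g : P) ^ (r ^ p) = (g : P) ^ 1 := by
        rw [← hconj, ← ht, pow_one, (Commute.pow_self (g : P) t).eq, mul_inv_cancel_right]
      rw [pow_eq_pow_iff_modEq, hgord] at h1
      have h2 : r ^ p ≡ 1 [MOD p] := h1.of_dvd (dvd_pow_self p hn0.ne')
      rw [← ZMod.natCast_eq_natCast_iff] at h2 ⊢
      rw [Nat.cast_pow, ZMod.pow_card] at h2
      exact h2
    by_cases hpt : p ∣ t
    · exfalso
      obtain ⟨t', rfl⟩ := hpt
      obtain ⟨u, huc, hu⟩ := geom_sum_eq_mul_unit hp.out hodd hr1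
      -- choose `i` so that `(g ^ i * y) ^ p = 1`
      obtain ⟨i, hi⟩ : ∃ i : ℕ, p ^ n ∣ u * i + t' := by
        obtain ⟨u', hu'⟩ : ∃ u' : ℕ, u * u' ≡ 1 [MOD p ^ n] := by
          have hc : u.Coprime (p ^ n) := huc.pow_right n
          have : NeZero (p ^ n) := ⟨pow_ne_zero _ hp.out.ne_zero⟩
          refine ⟨((u : ZMod (p ^ n))⁻¹).val, ?_⟩
          rw [← ZMod.natCast_eq_natCast_iff, Nat.cast_mul, Nat.cast_one, ZMod.natCast_zmod_val]
          exact ZMod.coe_mul_inv_eq_one u hc
        refine ⟨u' * (p ^ n * t' - t'), ?_⟩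
        rw [← Nat.modEq_zero_iff_dvd, ← mul_assoc]
        have hle : t' ≤ p ^ n * t' :=
          Nat.le_mul_of_pos_left _ (pow_pos hp.out.pos n)
        calc u * u' * (p ^ n * t' - t') + t'
            ≡ 1 * (p ^ n * t' - t') + t' [MOD p ^ n] := (hu'.mul_right _).add_right _
          _ = p ^ n * t' := by rw [one_mul, Nat.sub_add_cancel hle]
          _ ≡ 0 [MOD p ^ n] := Nat.modEq_zero_iff_dvd.2 (dvd_mul_right _ _)
      have hpow : ∀ k : ℕ, ((g : P) ^ i * y) ^ k
          = (g : P) ^ (i * ∑ j ∈ Finset.range k, r ^ j) * y ^ k := by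
        intro k
        induction k with
        | zero => simp
        | succ k ihk =>
          calc ((g : P) ^ i * y) ^ (k + 1)
              = (g : P) ^ (i * ∑ j ∈ Finset.range k, r ^ j) *
                  (y ^ k * (g : P) ^ i * (y ^ k)⁻¹) * (y ^ k * y) := by
                rw [pow_succ, ihk]; group
            _ = _ := by
                rw [← conj_pow, hconj, ← pow_mul, ← pow_add, ← pow_succ,
                  Finset.sum_range_succ, mul_add, mul_comm i (r ^ k)]
      set z := (g : P) ^ i * y with hz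
      have hzp : z ^ p = 1 := by
        rw [hpow, hu, ← ht, ← pow_add, ← orderOf_dvd_iff_pow_eq_one, hgord]
        have : i * (p * u) + p * t' = p * (u * i + t') := by ring
        rw [this]
        exact hi.mul_left p
      have hzQ : z ∉ Q := by
        intro hmem
        exact hy ((Q.mul_mem_cancel_left (Q.pow_mem g.2 i)).1 hmem)
      have hzo : orderOf z = p :=
        orderOf_eq_prime hzp fun h1 => hzQ (h1 ▸ Q.one_mem)
      set b := (g : P) ^ (p ^ (n - 1)) with hb
      have hbo : orderOf b = p := by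
        rw [hb, orderOf_pow' _ (pow_ne_zero _ hp.out.ne_zero), hgord,
          Nat.gcd_eq_right (pow_dvd_pow p (Nat.sub_le n 1)),
          Nat.pow_div (Nat.sub_le n 1) hp.out.pos]
        rw [show n - (n - 1) = 1 by omega, pow_one]
      have hcomm : Commute y b := by
        have h1 : y * b * y⁻¹ = b := by
          rw [hb, ← conj_pow, ← hr, ← pow_mul, mul_comm, pow_mul, ← hb]
          conv_rhs => rw [← pow_one b]
          rw [pow_eq_pow_iff_modEq, hbo]
          exact hr1
        exact eq_mul_inv_iff_mul_eq.1 h1.symm |>.symm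
      have hzb : Commute z b :=
        Commute.mul_left ((Commute.refl (g : P)).pow_pow i _) hcomm
      obtain ⟨k, hk⟩ := Subgroup.mem_zpowers_iff.1 (h z b hzb hzo hbo)
      exact hzQ (hk ▸ Q.zpow_mem (Q.pow_mem g.2 _) k)
    · have hyo : orderOf (y ^ p) = p ^ n := by
        have hcop : t.Coprime (p ^ n) :=
          ((Nat.coprime_comm.1 ((hp.out.coprime_iff_not_dvd).2 hpt))).pow_right n
        rw [← ht, (Nat.Coprime.orderOf_pow (by rw [hgord]; exact hcop.symm)), hgord]
      refine isCyclic_of_orderOf_eq_card y ?_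
      obtain ⟨m, hm⟩ := hP y
      obtain ⟨l, hl, hlo⟩ := (Nat.dvd_prime_pow hp.out).1 (orderOf_dvd_of_pow_eq_one hm)
      have hl0 : l ≠ 0 := by
        rintro rfl
        exact hy (orderOf_eq_one_iff.1 (by simpa using hlo) ▸ Q.one_mem)
      rw [orderOf_pow' _ hp.out.ne_zero, hlo,
        Nat.gcd_eq_right (dvd_pow_self p hl0)] at hyo
      obtain ⟨l', rfl⟩ := Nat.exists_eq_succ_of_ne_zero hl0
      rw [pow_succ, Nat.mul_div_cancel _ hp.out.pos] at hyo
      rw [hlo, pow_succ, hyo, hn, pow_succ]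

/-- A group of odd order acting fixed-point-freely on a nontrivial finite group of coprime order
is a Z-group. -/
theorem isZGroup_of_fpf {V K : Type*} [Group V] [Finite V] [Group K] [Finite K] [Nontrivial K]
    [MulDistribMulAction V K] (hodd : Odd (Nat.card V))
    (hcop : (Nat.card V).Coprime (Nat.card K))
    (hf : ∀ v : V, v ≠ 1 → ∀ x : K, v • x = x → x = 1) : IsZGroup V := by
  refine ⟨fun p hp S => ?_⟩
  have := Fact.mk hp
  by_cases hpV : p ∣ Nat.card V
  swap
  · have : (S : Subgroup V) = ⊥ := by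
      rw [← Subgroup.card_eq_one]
      rcases S.2.card_eq_or_dvd with h1 | h1
      · exact h1
      · exact absurd (h1.trans (Subgroup.card_subgroup_dvd_card _)) hpV
    exact isCyclic_of_surjective (MulEquiv.subgroupCongr this).symm
      (MulEquiv.subgroupCongr this).symm.surjective
  have hpodd : Odd p := hodd.of_dvd_nat hpV
  refine isCyclic_of_no_pair hpodd S.2 ?_
  intro a b hab ha hb
  by_contra hnot
  -- the abelian `p`-group generated by `a` and `b`
  set A : Subgroup V := Subgroup.closure {(a : V), (b : V)} with hA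
  have hAle : A ≤ S := (Subgroup.closure_le _).2 (by
    rintro x (rfl | rfl)
    · exact a.2
    · exact b.2)
  have hAp : IsPGroup p A := S.2.to_le hAle
  -- an invariant Sylow subgroup of `K`
  obtain ⟨q, hq, hqK⟩ := Nat.exists_prime_and_dvd (Finite.one_lt_card (α := K)).ne'
  have := Fact.mk hq
  have hnd : ¬ p ∣ Nat.card (Sylow q K) := by
    intro hd
    obtain ⟨T⟩ : Nonempty (Sylow q K) := inferInstance
    have h1 : p ∣ Nat.card K :=
      (hd.trans T.card_dvd_index).trans (Subgroup.index_dvd_card _)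
    exact hp.ne_one (Nat.eq_one_of_dvd_coprimes hcop hpV h1)
  obtain ⟨T, hT⟩ := hAp.nonempty_fixed_point_of_prime_not_dvd_card (Sylow q K) hnd
  have hT1 : Nontrivial (T : Subgroup K) := by
    refine Finite.one_lt_card_iff_nontrivial.1 ?_
    have h1 : q ∣ Nat.card (T : Subgroup K) := by
      simpa using T.dvd_card_of_dvd_card hqK
    exact lt_of_lt_of_le hq.one_lt (Nat.le_of_dvd Nat.card_pos h1)
  have hmem : ∀ v ∈ A, ∀ x ∈ (T : Subgroup K), v • x ∈ (T : Subgroup K) := by
    intro v hv x hx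
    have h1 : (⟨v, hv⟩ : A) • T = T := hT ⟨v, hv⟩
    have h2 : v • x ∈ (((⟨v, hv⟩ : A) • T : Sylow q K) : Subgroup K) :=
      Subgroup.smul_mem_pointwise_smul x v _ hx
    rwa [h1] at h2
  -- its centre is invariant
  set Z := Subgroup.center (T : Subgroup K) with hZ
  have hZ1 : Nontrivial Z := T.2.center_nontrivial
  let act : A → Z → Z := fun v z => ⟨⟨(v : V) • ((z : (T : Subgroup K)) : K),
      hmem v v.2 _ (z : (T : Subgroup K)).2⟩, by
    refine Subgroup.mem_center_iff.2 fun y => ?_
    have hy : (v : V)⁻¹ • (y : K) ∈ (T : Subgroup K) := hmem _ (A.inv_mem v.2) _ y.2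
    have h1 := congrArg Subtype.val (Subgroup.mem_center_iff.1 z.2 ⟨_, hy⟩)
    have h2 := congrArg ((v : V) • ·) h1
    ext
    simpa [smul_mul'] using h2⟩
  let : MulDistribMulAction A Z :=
    { smul := act
      one_smul := fun z => Subtype.ext (Subtype.ext (one_smul V _))
      mul_smul := fun v w z => Subtype.ext (Subtype.ext (mul_smul (v : V) (w : V) _))
      smul_mul := fun v z w => Subtype.ext (Subtype.ext (smul_mul' (v : V) _ _))
      smul_one := fun v => Subtype.ext (Subtype.ext (smul_one (v : V))) }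
  let : CommGroup Z :=
    { (inferInstance : Group Z) with
      mul_comm := fun x y => Subtype.ext ((Subgroup.mem_center_iff.1 x.2 (y : (T : Subgroup K))).symm) }
  let a' : A := ⟨(a : V), Subgroup.subset_closure (by simp)⟩
  let b' : A := ⟨(b : V), Subgroup.subset_closure (by simp)⟩
  have hfA : ∀ v : A, v ≠ 1 → ∀ z : Z, v • z = z → z = 1 := by
    intro v hv z hz
    have := hf (v : V) (fun h1 => hv (Subtype.ext h1)) _
      (congrArg (fun w : Z => ((w : (T : Subgroup K)) : K)) hz)
    exact Subtype.ext (Subtype.ext this)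
  refine false_of_fpf_pair (V := A) (M := Z) hp ?_ a' b' (Subtype.ext (show (a : V) * (b : V) = (b : V) * (a : V) from congrArg Subtype.val hab.eq))
    ?_ ?_ (hfA b' ?_) (fun i _ => hfA (a' * b' ^ i) ?_)
  · refine Nat.Coprime.coprime_dvd_left ?_ ((hcop.coprime_dvd_left hpV).symm)
    exact (Subgroup.card_subgroup_dvd_card _).trans (Subgroup.card_subgroup_dvd_card _)
  · ext
    simpa [a'] using congrArg Subtype.val (orderOf_dvd_iff_pow_eq_one.1 ha.dvd)
  · ext
    simpa [b'] using congrArg Subtype.val (orderOf_dvd_iff_pow_eq_one.1 hb.dvd)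
  · intro h1
    have h2 : b = 1 := Subtype.ext (by simpa [b'] using congrArg Subtype.val h1)
    rw [h2, orderOf_one] at hb
    exact hp.ne_one hb.symm
  · intro h1
    apply hnot
    have h2 : a * b ^ i = 1 := Subtype.ext (by simpa [a', b'] using congrArg Subtype.val h1)
    rw [eq_inv_of_mul_eq_one_left h2]
    exact (Subgroup.zpowers b).inv_mem ((Subgroup.zpowers b).pow_mem (Subgroup.mem_zpowers b) i)

end Cfsg.Agent.CharDeep.Zass
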