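import Cfsg.Agent.Lib.BlocksCore.Ortho

/-! Expansion of class functions in irreducible characters and sums over products of classes. -/

namespace Cfsg.Agent.CharDeep

open scoped ComplexConjugate
open BlocksCore

variable {G : Type*} [Group G] [Fintype G]

theorem classFun_eq_sum {f : G → ℂ} (hf : Cfsg.IsClassFunction G f) (g : G) :
    f g = ∑ χ : Cfsg.IrrCharacter G,
      ((Nat.card G : ℂ)⁻¹ * ∑ x, f x * (χ : G → ℂ) x) * conj ((χ : G → ℂ) g) := by
  classical
  have h0 : (fun y => f y - ∑ χ : Cfsg.IrrCharacter G,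
      ((Nat.card G : ℂ)⁻¹ * ∑ x, f x * (χ : G → ℂ) x) * conj ((χ : G → ℂ) y)) = 0 := by
    refine classFunction_eq_zero (fun y h => ?_) fun ψ => ?_
    · simp only [hf y h, CharCore.irr_isClassFunction _ y h]
    · have hne : (Nat.card G : ℂ) ≠ 0 := Nat.cast_ne_zero.mpr Nat.card_pos.ne'
      simp only [sub_mul, Finset.sum_sub_distrib, Finset.sum_mul]
      rw [Finset.sum_comm (s := Finset.univ (α := G)) (t := Finset.univ (α := Cfsg.IrrCharacter G))]
      have hχ : ∀ χ : Cfsg.IrrCharacter G, ∀ a : ℂ,
          ∑ y, a * conj ((χ : G → ℂ) y) * (ψ : G → ℂ) y =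
            a * if ψ = χ then (Nat.card G : ℂ) else 0 := by
        intro χ a
        rw [← sum_char_mul_inv, Finset.mul_sum]
        exact Finset.sum_congr rfl fun y _ => by rw [CharCore.irr_apply_inv]; ring
      simp only [hχ, mul_ite, mul_zero, Finset.sum_ite_eq, Finset.mem_univ, if_true]
      field_simp
      simp
  exact sub_eq_zero.mp (congrFun h0 g)

theorem sum_classInd_eq_card (g : G) :
    ∑ x, classInd g x = (Nat.card {x : G // IsConj g x} : ℂ) := by
  classical
  rw [Nat.card_eq_fintype_card, Fintype.card_subtype, Finset.natCast_card_filter]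
  exact Finset.sum_congr rfl fun x _ => by
    split_ifs with h
    · exact classInd_apply_of_isConj h
    · exact classInd_apply_of_not_isConj h

theorem omega_classInd' (χ : Cfsg.IrrCharacter G) (g : G) :
    omega (χ : G → ℂ) (classInd g) =
      (Nat.card {x : G // IsConj g x} : ℂ) * (χ : G → ℂ) g / (χ : G → ℂ) 1 := by
  rw [omega_eq_sum, ← sum_classInd_eq_card, Finset.sum_mul]
  congr 1
  refine Finset.sum_congr rfl fun x _ => ?_
  by_cases h : IsConj g x
  · obtain ⟨c, rfl⟩ := isConj_iff.mp h
    rw [CharCore.irr_isClassFunction χ g c]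
  · rw [classInd_apply_of_not_isConj h, zero_mul, zero_mul]

/-- Summing an irreducible character over the products of two classes. -/
theorem sum_conv_mul (χ : Cfsg.IrrCharacter G) (a b : G) :
    ∑ x, conv (classInd a) (classInd b) x * (χ : G → ℂ) x =
      (Nat.card {x : G // IsConj a x} : ℂ) * (Nat.card {x : G // IsConj b x} : ℂ) *
        (χ : G → ℂ) a * (χ : G → ℂ) b / (χ : G → ℂ) 1 := by
  have h := omega_conv χ (isClassFunction_classInd a) (isClassFunction_classInd b)
  have h1 := irr_one_ne_zero χ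
  rw [omega_eq_sum, omega_classInd', omega_classInd', div_eq_iff h1] at h
  rw [h]; field_simp

open Classical in
theorem conv_classInd_apply (a b c : G) :
    conv (classInd a) (classInd b) c =
      (Nat.card {p : G × G // IsConj a p.1 ∧ IsConj b p.2 ∧ p.1 * p.2 = c} : ℂ) := by
  rw [conv_apply]
  have e : {p : G × G // IsConj a p.1 ∧ IsConj b p.2 ∧ p.1 * p.2 = c} ≃
      {x : G // IsConj a x ∧ IsConj b (x⁻¹ * c)} :=
    { toFun := fun p => ⟨p.1.1, p.2.1, (show p.1.1⁻¹ * c = p.1.2 from inv_mul_eq_iff_eq_mul.mpr p.2.2.2.symm).symm ▸ p.2.2.1⟩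
      invFun := fun x => ⟨(x.1, x.1⁻¹ * c), x.2.1, x.2.2, mul_inv_cancel_left _ _⟩
      left_inv := fun p => by
        ext
        · rfl
        · exact inv_mul_eq_iff_eq_mul.mpr p.2.2.2.symm
      right_inv := fun x => rfl }
  rw [Nat.card_congr e, Nat.card_eq_fintype_card, Fintype.card_subtype,
    Finset.natCast_card_filter]
  refine Finset.sum_congr rfl fun x _ => ?_
  by_cases h1 : IsConj a x <;> by_cases h2 : IsConj b (x⁻¹ * c) <;>
    simp [classInd_apply_of_isConj, classInd_apply_of_not_isConj, h1, h2, -isConj_iff]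

theorem sum_pairs_char (χ : Cfsg.IrrCharacter G) (a b : G) :
    ∑ x, ∑ y, classInd a x * classInd b y * (χ : G → ℂ) (x * y) =
      (Nat.card {x : G // IsConj a x} : ℂ) * (Nat.card {x : G // IsConj b x} : ℂ) *
        (χ : G → ℂ) a * (χ : G → ℂ) b / (χ : G → ℂ) 1 := by
  rw [← sum_conv_mul]
  simp only [conv_apply, Finset.sum_mul]
  conv_rhs => rw [Finset.sum_comm]
  refine Finset.sum_congr rfl fun x _ => ?_
  exact Fintype.sum_equiv (Equiv.mulLeft x) _ _ fun y => by simp [mul_assoc]

end Cfsg.Agent.CharDeep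

namespace Cfsg.Agent.CharDeep

open scoped ComplexConjugate
open BlocksCore

variable {G : Type*} [Group G] [Fintype G]

/-- Column orthogonality. -/
theorem sum_irr_mul_conj (x y : G) :
    (Nat.card {z : G // IsConj x z} : ℂ) *
        ∑ χ : Cfsg.IrrCharacter G, (χ : G → ℂ) x * conj ((χ : G → ℂ) y) =
      (Nat.card G : ℂ) * classInd x y := by
  rw [classFun_eq_sum (isClassFunction_classInd x) y, Finset.mul_sum, Finset.mul_sum]
  refine Finset.sum_congr rfl fun χ _ => ?_
  have h := omega_classInd' χ x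
  rw [omega_eq_sum, div_left_inj' (irr_one_ne_zero χ)] at h
  have hne : (Nat.card G : ℂ) ≠ 0 := Nat.cast_ne_zero.mpr Nat.card_pos.ne'
  rw [h]
  field_simp

theorem class_card_ne_zero (x : G) : (Nat.card {z : G // IsConj x z} : ℂ) ≠ 0 := by
  have : Nonempty {z : G // IsConj x z} := ⟨⟨x, IsConj.refl x⟩⟩
  exact Nat.cast_ne_zero.mpr Nat.card_pos.ne'

/-- Brauer's permutation lemma for a single pair of compatible permutations. -/
theorem card_fixed_irr_eq (σ : Cfsg.IrrCharacter G → Cfsg.IrrCharacter G)
    (τ : ConjClasses G → ConjClasses G)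
    (h : ∀ (χ : Cfsg.IrrCharacter G) (g g' : G), τ (ConjClasses.mk g) = ConjClasses.mk g' →
      (σ χ : G → ℂ) g = (χ : G → ℂ) g') :
    Nat.card {χ : Cfsg.IrrCharacter G // σ χ = χ} = Nat.card {C : ConjClasses G // τ C = C} := by
  classical
  have : Finite (ConjClasses G) := Finite.of_surjective _ ConjClasses.mk_surjective
  have := Fintype.ofFinite (ConjClasses G)
  choose r hr using fun g : G => ConjClasses.exists_rep (τ (ConjClasses.mk g))
  have hne : (Nat.card G : ℂ) ≠ 0 := Nat.cast_ne_zero.mpr Nat.card_pos.ne'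
  have h1 : (Nat.card {χ : Cfsg.IrrCharacter G // σ χ = χ} : ℂ) =
      (Nat.card G : ℂ)⁻¹ * ∑ g : G, ∑ χ : Cfsg.IrrCharacter G,
        (χ : G → ℂ) (r g) * conj ((χ : G → ℂ) g) := by
    rw [Nat.card_eq_fintype_card, Fintype.card_subtype, Finset.natCast_card_filter,
      Finset.sum_comm, Finset.mul_sum]
    refine Finset.sum_congr rfl fun χ _ => ?_
    rw [← CharCore.classInner_irr, CharCore.classInner_def]
    congr 1
    exact Finset.sum_congr rfl fun g _ => by rw [h χ g (r g) (hr g).symm]
  have h2 : ∀ g : G, ∑ χ : Cfsg.IrrCharacter G, (χ : G → ℂ) (r g) * conj ((χ : G → ℂ) g) =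
      (Nat.card G : ℂ) * if τ (ConjClasses.mk g) = ConjClasses.mk g then
        (Nat.card {z : G // IsConj g z} : ℂ)⁻¹ else 0 := by
    intro g
    have e := sum_irr_mul_conj (r g) g
    split_ifs with hτ
    · have hc : IsConj (r g) g := ConjClasses.mk_eq_mk_iff_isConj.mp ((hr g).trans hτ)
      have hcard : Nat.card {z : G // IsConj (r g) z} = Nat.card {z : G // IsConj g z} :=
        Nat.card_congr (Equiv.subtypeEquivRight fun z =>
          ⟨fun h' => hc.symm.trans h', fun h' => hc.trans h'⟩)
      rw [classInd_apply_of_isConj hc, hcard, mul_one] at e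
      rw [← e, mul_comm (Nat.card {z : G // IsConj g z} : ℂ),
        mul_assoc, mul_inv_cancel₀ (class_card_ne_zero g), mul_one]
    · have hc : ¬ IsConj (r g) g := fun h' =>
        hτ ((hr g).symm.trans (ConjClasses.mk_eq_mk_iff_isConj.mpr h'))
      rw [classInd_apply_of_not_isConj hc, mul_zero, mul_eq_zero,
        or_iff_right (class_card_ne_zero _)] at e
      rw [e, mul_zero]
  have h3 : (Nat.card {C : ConjClasses G // τ C = C} : ℂ) =
      ∑ g : G, if τ (ConjClasses.mk g) = ConjClasses.mk g then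
        (Nat.card {z : G // IsConj g z} : ℂ)⁻¹ else 0 := by
    rw [Nat.card_eq_fintype_card, Fintype.card_subtype, Finset.natCast_card_filter,
      ← Finset.sum_fiberwise_of_maps_to (g := ConjClasses.mk) (t := (Finset.univ : Finset (ConjClasses G)))
        (fun g _ => Finset.mem_univ _)]
    refine Finset.sum_congr rfl fun C _ => ?_
    obtain ⟨c, rfl⟩ := ConjClasses.exists_rep C
    have hs : ∀ g ∈ Finset.univ.filter (fun g : G => ConjClasses.mk g = ConjClasses.mk c),
        (if τ (ConjClasses.mk g) = ConjClasses.mk g then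
          (Nat.card {z : G // IsConj g z} : ℂ)⁻¹ else 0) =
        (if τ (ConjClasses.mk c) = ConjClasses.mk c then
          (Nat.card {z : G // IsConj c z} : ℂ)⁻¹ else 0) := by
      intro g hg
      have hg' := (Finset.mem_filter.mp hg).2
      have hc : IsConj g c := ConjClasses.mk_eq_mk_iff_isConj.mp hg'
      rw [hg', Nat.card_congr (Equiv.subtypeEquivRight (p := fun z => IsConj g z) fun z =>
        ⟨fun h' => hc.symm.trans h', fun h' => hc.trans h'⟩)]
    rw [Finset.sum_congr rfl hs, Finset.sum_const, nsmul_eq_mul]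
    have hcard : (Finset.univ.filter (fun g : G => ConjClasses.mk g = ConjClasses.mk c)).card =
        Nat.card {z : G // IsConj c z} := by
      rw [Nat.card_eq_fintype_card, ← Fintype.card_subtype]
      exact Fintype.card_congr (Equiv.subtypeEquivRight fun z =>
        ConjClasses.mk_eq_mk_iff_isConj.trans isConj_comm)
    rw [hcard]
    split_ifs with hτ
    · rw [mul_inv_cancel₀ (class_card_ne_zero c)]
    · rw [mul_zero]
  have : (Nat.card {χ : Cfsg.IrrCharacter G // σ χ = χ} : ℂ) =
      (Nat.card {C : ConjClasses G // τ C = C} : ℂ) := by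
    rw [h1, h3, Finset.sum_congr rfl (fun g _ => h2 g), ← Finset.mul_sum, ← mul_assoc,
      inv_mul_cancel₀ hne, one_mul]
  exact_mod_cast this

end Cfsg.Agent.CharDeep
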