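import Cfsg.Agent.Lib.CharCore.Basic
import Cfsg.Agent.Lib.CharInd.Monomial

/-! Linear characters and kernels of characters as subgroups. -/

namespace Cfsg.Agent.CharDeep

open scoped ComplexConjugate

variable {G : Type*} [Group G]

/-- The subgroup of elements translation by which fixes a function. -/
def transKer (f : G → ℂ) : Subgroup G where
  carrier := {g | ∀ h, f (g * h) = f h}
  one_mem' := fun h => by rw [one_mul]
  mul_mem' := fun {a b} ha hb h => by rw [mul_assoc, ha, hb]
  inv_mem' := fun {a} ha h => by
    have := ha (a⁻¹ * h)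
    rw [mul_inv_cancel_left] at this
    exact this.symm

theorem mem_transKer {f : G → ℂ} {g : G} : g ∈ transKer f ↔ ∀ h, f (g * h) = f h := Iff.rfl

theorem transKer_normal {f : G → ℂ} (hf : Cfsg.IsClassFunction G f) : (transKer f).Normal := by
  constructor
  intro a ha g h
  rw [show g * a * g⁻¹ * h = g * (a * (g⁻¹ * h * g)) * g⁻¹ by group, hf, ha]
  have := hf h g⁻¹
  rwa [inv_inv] at this

theorem apply_eq_one_of_mem_transKer {f : G → ℂ} {g : G} (hg : g ∈ transKer f) : f g = f 1 := by
  simpa using hg 1

theorem mem_transKer_of_apply_eq [Finite G] {χ : G → ℂ} (hχ : Cfsg.IsCharacter G χ) {g : G}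
    (hg : χ g = χ 1) : g ∈ transKer χ := by
  obtain ⟨n, ρ, rfl⟩ := hχ
  have h1 : ρ g = LinearMap.id := (CharCore.character_eq_finrank_iff ρ g).mp (by
    rw [hg, Representation.char_one])
  intro h
  rw [Representation.character, map_mul, h1]
  rfl

/-- A linear character as a homomorphism gives a character. -/
theorem isCharacter_linear (lam : G →* ℂˣ) : Cfsg.IsCharacter G (fun g => (lam g : ℂ)) := by
  let ρ : Representation ℂ G ℂ :=
    { toFun := fun g => (lam g : ℂ) • (LinearMap.id : ℂ →ₗ[ℂ] ℂ)
      map_one' := by ext; simp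
      map_mul' := fun a b => by ext; simp [mul_comm] }
  have h := CharInd.isCharacter_of_rep ρ
  convert h using 1
  funext g
  rw [Representation.character]
  change _ = LinearMap.trace ℂ ℂ ((lam g : ℂ) • LinearMap.id)
  simp

/-- An irreducible character whose translation kernel contains the derived subgroup is linear. -/
theorem irr_apply_one_eq_one [Finite G] {χ : G → ℂ} (hχ : Cfsg.IsIrrCharacter G χ)
    (h : commutator G ≤ transKer χ) : χ 1 = 1 := by
  obtain ⟨n, ρ, hρ, rfl⟩ := hχ
  have hcomm : ∀ a b : G, ρ a * ρ b = ρ b * ρ a := by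
    intro a b
    have hm : a * b * a⁻¹ * b⁻¹ ∈ commutator G :=
      Subgroup.commutator_mem_commutator (Subgroup.mem_top a) (Subgroup.mem_top b)
    have h1 : ρ (a * b * a⁻¹ * b⁻¹) = LinearMap.id :=
      (CharCore.character_eq_finrank_iff ρ _).mp (by
        rw [apply_eq_one_of_mem_transKer (h hm), Representation.char_one])
    rw [← map_mul, ← map_mul, show a * b = a * b * a⁻¹ * b⁻¹ * (b * a) by group, map_mul, h1]
    rfl
  have hs : ∀ g, g ∈ CharInd.scalarSubgroup ρ := by
    intro g
    obtain ⟨c, hc⟩ :=
      (Representation.IsIrreducible.algebraMap_intertwiningMap_bijective_of_isAlgClosed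
        (ρ := ρ)).surjective (⟨ρ g, fun b => hcomm g b⟩ : Representation.IntertwiningMap ρ ρ)
    refine CharInd.mem_scalarSubgroup.mpr ⟨c, fun v => ?_⟩
    exact (LinearMap.congr_fun (congrArg Representation.IntertwiningMap.toLinearMap hc) v).symm
  rw [Representation.char_one, CharInd.finrank_eq_one_of_scalar ρ hs, Nat.cast_one]

end Cfsg.Agent.CharDeep
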