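import Cfsg.Agent.CharDeep.QuatSylow
import Cfsg.Agent.CharDeep.Expand
import Cfsg.Agent.CharDeep.Tools
import Cfsg.Agent.Lib.CharInd.Char

/-! Brauer–Suzuki theorem for generalized quaternion Sylow 2-subgroups of order at least 16. -/

namespace Cfsg.Agent.CharDeep

open scoped ComplexConjugate
open Subgroup

theorem int_sq_sum_three {ι : Type*} [Fintype ι] [DecidableEq ι] (a : ι → ℤ) (i₀ : ι)
    (h₀ : a i₀ = 1) (hs : ∑ i, a i * a i = 3) :
    ∃ j k, j ≠ i₀ ∧ k ≠ i₀ ∧ j ≠ k ∧ (a j = 1 ∨ a j = -1) ∧ (a k = 1 ∨ a k = -1) ∧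
      ∀ i, i ≠ i₀ → i ≠ j → i ≠ k → a i = 0 := by
  have h1 : a i₀ * a i₀ + ∑ i ∈ Finset.univ.erase i₀, a i * a i = 3 := by
    rw [← hs]; exact Finset.add_sum_erase Finset.univ (fun i => a i * a i) (Finset.mem_univ i₀)
  rw [h₀] at h1
  set U := (Finset.univ.erase i₀).filter fun i => a i ≠ 0 with hU
  have h2 : ∑ i ∈ U, a i * a i = 2 := by
    rw [hU, Finset.sum_filter, Finset.sum_congr rfl fun i _ =>
      (show (if a i ≠ 0 then a i * a i else 0) = a i * a i by split_ifs with h0 <;> simp_all)]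
    linarith
  have h3 : ∀ i ∈ U, a i * a i = 1 := by
    intro i hi
    have hle : a i * a i ≤ 2 := h2 ▸ Finset.single_le_sum (fun j _ => mul_self_nonneg (a j)) hi
    have hne := (Finset.mem_filter.mp hi).2
    have hb1 : a i ≤ 1 := by nlinarith
    have hb2 : -1 ≤ a i := by nlinarith
    rcases (by omega : a i = 1 ∨ a i = -1) with h | h <;> rw [h] <;> norm_num
  have h4 : U.card = 2 := by
    rw [Finset.sum_congr rfl h3, Finset.sum_const, nsmul_eq_mul, mul_one] at h2
    exact_mod_cast h2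
  obtain ⟨j, k, hjk, hUjk⟩ := Finset.card_eq_two.mp h4
  have hj : j ∈ U := by rw [hUjk]; simp
  have hk : k ∈ U := by rw [hUjk]; simp
  refine ⟨j, k, Finset.ne_of_mem_erase (Finset.mem_filter.mp hj).1,
    Finset.ne_of_mem_erase (Finset.mem_filter.mp hk).1, hjk,
    mul_self_eq_one_iff.mp (h3 j hj), mul_self_eq_one_iff.mp (h3 k hk), fun i hi0 hij hik => ?_⟩
  by_contra hne
  have : i ∈ U := Finset.mem_filter.mpr ⟨Finset.mem_erase.mpr ⟨hi0, Finset.mem_univ _⟩, hne⟩
  rw [hUjk] at this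
  simp [hij, hik] at this

variable {G : Type*} [Group G] [Fintype G]

/-- Generators adapted to a quaternion Sylow subgroup. -/
theorem quat_gens (S : Sylow 2 G) (n : ℕ)
    (e : (S : Subgroup G) ≃* QuaternionGroup (2 ^ (n + 2))) (D : Subgroup G)
    (hD : D = ⁅(S : Subgroup G), (S : Subgroup G)⁆) :
    ∃ a₁ s z : G, (S : Subgroup G) ⊓ centralizer (D : Set G) = zpowers a₁ ∧
      orderOf a₁ = 2 ^ (n + 3) ∧ s ∈ (S : Subgroup G) ∧ s ∉ centralizer (D : Set G) ∧
      s * a₁ * s⁻¹ = a₁⁻¹ ∧ orderOf z = 2 ∧ z ∈ (S : Subgroup G) ∧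
      z ∈ centralizer (D : Set G) ∧ (∀ x ∈ (S : Subgroup G), x ^ 2 = 1 → x = 1 ∨ x = z) ∧
      ∀ x ∈ (S : Subgroup G), x ∉ centralizer (D : Set G) →
        x * a₁ * x⁻¹ * a₁⁻¹ = (a₁ ^ 2)⁻¹ := by
  have hloc := quatLocal_of_equiv S n e D hD
  set k := 2 ^ (n + 2) with hk
  have hk3 : 3 ≤ k := by
    have : 2 ^ 2 ≤ 2 ^ (n + 2) := Nat.pow_le_pow_right (by norm_num) (by omega)
    omega
  let c : QuaternionGroup k →* G := (S : Subgroup G).subtype.comp e.symm.toMonoidHom
  have hc : Function.Injective c := Subtype.val_injective.comp e.symm.injective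
  have hmem : ∀ q, c q ∈ (S : Subgroup G) := fun q => (e.symm q).2
  have hsurj : ∀ x ∈ (S : Subgroup G), ∃ q, c q = x := fun x hx =>
    ⟨e ⟨x, hx⟩, congrArg Subtype.val (e.symm_apply_apply ⟨x, hx⟩)⟩
  have inv_a : ∀ i : ZMod (2 * k), (QuaternionGroup.a i : QuaternionGroup k)⁻¹ = QuaternionGroup.a (-i) :=
    fun _ => rfl
  have inv_xa : ∀ i : ZMod (2 * k),
      (QuaternionGroup.xa i : QuaternionGroup k)⁻¹ = QuaternionGroup.xa ((k : ZMod (2 * k)) + i) :=
    fun _ => rfl
  have hkk : (k : ZMod (2 * k)) + (k : ZMod (2 * k)) = 0 := by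
    rw [← two_mul, ← ZMod.natCast_self (2 * k)]; push_cast; ring
  have hDc : D = zpowers (c (QuaternionGroup.a 2)) := by
    rw [hD]
    have hrange : c.range = (S : Subgroup G) := by
      ext x
      exact ⟨fun ⟨q, hq⟩ => hq ▸ hmem q, fun hx => hsurj x hx⟩
    rw [← hrange, MonoidHom.range_eq_map, ← Subgroup.map_commutator, ← commutator_def,
      quat_commutator_eq, MonoidHom.map_zpowers]
  have haC : c (QuaternionGroup.a 1) ∈ centralizer (D : Set G) := by
    rw [hDc, zpowers_eq_closure (c (QuaternionGroup.a 2)), centralizer_closure,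
      mem_centralizer_singleton_iff, ← map_mul, ← map_mul, QuaternionGroup.a_mul_a,
      QuaternionGroup.a_mul_a, add_comm]
  have ho : orderOf (c (QuaternionGroup.a 1)) = 2 ^ (n + 3) := by
    rw [orderOf_injective c hc, QuaternionGroup.orderOf_a_one, hk]; ring
  have hP : (S : Subgroup G) ⊓ centralizer (D : Set G) = zpowers (c (QuaternionGroup.a 1)) :=
    (Subgroup.eq_of_le_of_card_ge (zpowers_le.mpr (mem_inf.mpr ⟨hmem _, haC⟩))
      (by rw [hloc.card_P, Nat.card_zpowers, ho])).symm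
  have hzinv : ∀ i, c (QuaternionGroup.xa i) * c (QuaternionGroup.a 1) * (c (QuaternionGroup.xa i))⁻¹
      = (c (QuaternionGroup.a 1))⁻¹ := by
    intro i
    rw [← map_inv, ← map_inv, ← map_mul, ← map_mul, inv_xa, inv_a, QuaternionGroup.xa_mul_a,
      QuaternionGroup.xa_mul_xa]
    congr 2
    linear_combination hkk
  have hzk : orderOf (c (QuaternionGroup.a (k : ZMod (2 * k)))) = 2 := by
    rw [orderOf_injective c hc, QuaternionGroup.orderOf_a, ZMod.val_natCast,
      Nat.mod_eq_of_lt (by omega), Nat.gcd_eq_right (dvd_mul_left k 2),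
      Nat.mul_div_cancel _ (by omega)]
  refine ⟨c (QuaternionGroup.a 1), c (QuaternionGroup.xa 0), c (QuaternionGroup.a (k : ZMod (2 * k))),
    hP, ho, hmem _, ?_, hzinv 0, hzk, hmem _, ?_, ?_, ?_⟩
  · intro h
    have h1 : c (QuaternionGroup.xa 0) ∈ zpowers (c (QuaternionGroup.a 1)) := hP.le ⟨hmem _, h⟩
    obtain ⟨j, hj⟩ := h1
    have h2 := hzinv 0
    rw [← hj, ← zpow_add_one, ← zpow_neg, ← zpow_add,
      show j + 1 + -j = (1 : ℤ) by ring, zpow_one, eq_inv_iff_mul_eq_one, ← sq,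
      ← orderOf_dvd_iff_pow_eq_one, ho] at h2
    have h3 := Nat.le_of_dvd (by norm_num) h2
    have h4 : 2 ^ 3 ≤ 2 ^ (n + 3) := Nat.pow_le_pow_right (by norm_num) (by omega)
    omega
  · have : c (QuaternionGroup.a (k : ZMod (2 * k))) ∈ zpowers (c (QuaternionGroup.a 1)) := by
      rw [← QuaternionGroup.a_one_pow, map_pow]; exact npow_mem_zpowers _ _
    exact (hP.ge this).2
  · intro x hx hx2
    obtain ⟨q, rfl⟩ := hsurj x hx
    rw [← map_pow, ← map_one c] at hx2
    have hq := hc hx2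
    rcases q with i | i
    · rw [sq, QuaternionGroup.a_mul_a, QuaternionGroup.one_def, QuaternionGroup.a.injEq,
        ← two_mul, ← ZMod.natCast_zmod_val i] at hq
      replace hq : ((2 * i.val : ℕ) : ZMod (2 * k)) = 0 := by push_cast; exact hq
      rw [ZMod.natCast_eq_zero_iff] at hq
      obtain ⟨j, hj⟩ : k ∣ i.val := Nat.dvd_of_mul_dvd_mul_left two_pos hq
      have hlt : i.val < 2 * k := ZMod.val_lt i
      rw [hj] at hlt
      have hj2 : j < 2 := Nat.lt_of_mul_lt_mul_left (a := k) (by linarith)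
      interval_cases j
      · left
        rw [(ZMod.val_eq_zero i).mp (by omega), QuaternionGroup.a_zero, map_one]
      · right
        rw [← ZMod.natCast_zmod_val i, hj, mul_one]
    · exfalso
      have := orderOf_dvd_of_pow_eq_one hq
      rw [QuaternionGroup.orderOf_xa] at this
      omega
  · intro x hx hxC
    obtain ⟨q, rfl⟩ := hsurj x hx
    rcases q with i | i
    · refine absurd (hP.ge ?_).2 hxC
      rw [← ZMod.natCast_zmod_val i, ← QuaternionGroup.a_one_pow, map_pow]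
      exact npow_mem_zpowers _ _
    · rw [hzinv i, ← mul_inv_rev, ← sq]

variable {S : Sylow 2 G} {n : ℕ} {D : Subgroup G}

/-- The linear character of order four of `C_G(D)` trivial on elements of small 2-part. -/
theorem exists_mu (h : QuatLocal S n D) {a₁ s : G}
    (hP : (S : Subgroup G) ⊓ centralizer (D : Set G) = zpowers a₁)
    (ho : orderOf a₁ = 2 ^ (n + 3)) (hsS : s ∈ (S : Subgroup G))
    (hinv : s * a₁ * s⁻¹ = a₁⁻¹) (ha : a₁ ∈ centralizer (D : Set G)) :
    ∃ μ : centralizer (D : Set G) →* ℂˣ, (μ ⟨a₁, ha⟩ : ℂ) = Complex.I ∧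
      (∀ c : centralizer (D : Set G), ¬ Nat.card D ∣ orderOf (c : G) → μ c = 1) ∧
      ∀ c c' : centralizer (D : Set G), (c' : G) = s * c * s⁻¹ → μ c' = (μ c)⁻¹ := by
  obtain ⟨K, hKodd, hKC, hKmem, hKN, hKP, -⟩ := h.exists_complement
  haveI : (K.subgroupOf (centralizer (D : Set G))).Normal :=
    (normal_subgroupOf_iff_le_normalizer hKC).mpr ((centralizer_le_normalizer (D : Set G)).trans hKN)
  set q := QuotientGroup.mk' (K.subgroupOf (centralizer (D : Set G))) with hq
  have hgen : ∀ x, x ∈ zpowers (q ⟨a₁, ha⟩) := by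
    intro x
    obtain ⟨y, rfl⟩ := QuotientGroup.mk'_surjective (K.subgroupOf (centralizer (D : Set G))) x
    have h1 : (centralizer (D : Set G)) ≤ ((zpowers (q ⟨a₁, ha⟩)).comap q).map (centralizer (D : Set G)).subtype := by
      conv_lhs => rw [← hKP, hP]
      refine sup_le (fun k hk => ⟨⟨k, hKC hk⟩, ?_, rfl⟩) (zpowers_le.mpr ⟨⟨a₁, ha⟩, ?_, rfl⟩)
      · change q ⟨k, hKC hk⟩ ∈ zpowers (q ⟨a₁, ha⟩)
        rw [show q ⟨k, hKC hk⟩ = 1 from (QuotientGroup.eq_one_iff _).mpr (mem_subgroupOf.mpr hk)]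
        exact one_mem _
      · exact mem_zpowers _
    obtain ⟨y', hy', he⟩ := h1 y.2
    obtain rfl : y' = y := Subtype.ext he
    exact hy'
  have hord : orderOf (q ⟨a₁, ha⟩) = 2 ^ (n + 3) := by
    refine Nat.dvd_antisymm ((orderOf_map_dvd q _).trans (by rw [orderOf_mk, ho])) ?_
    rw [← ho, orderOf_dvd_iff_pow_eq_one]
    have h1 : q (⟨a₁, ha⟩ ^ orderOf (q ⟨a₁, ha⟩)) = 1 := by rw [map_pow, pow_orderOf_eq_one]
    have h2 := ((hKmem _).mp (mem_subgroupOf.mp ((QuotientGroup.eq_one_iff _).mp h1))).2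
    rw [SubgroupClass.coe_pow] at h2
    rw [← orderOf_eq_one_iff]
    have h3 : orderOf (a₁ ^ orderOf (q ⟨a₁, ha⟩)) ∣ 2 ^ (n + 3) := ho ▸ orderOf_pow_dvd _
    exact Nat.eq_one_of_dvd_coprimes (Nat.Coprime.pow_left _ (Nat.coprime_two_left.mpr h2))
      h3 dvd_rfl
  let i4 : ℂˣ := Units.mk0 Complex.I Complex.I_ne_zero
  have hi4 : i4 ^ 4 = 1 := Units.ext (by simp [i4])
  have hdvd : orderOf i4 ∣ orderOf (q ⟨a₁, ha⟩) := by
    rw [hord]
    exact (orderOf_dvd_of_pow_eq_one hi4).trans ⟨2 ^ (n + 1), by ring⟩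
  set ν := monoidHomOfForallMemZpowers hgen hdvd with hν
  refine ⟨ν.comp q, ?_, ?_, ?_⟩
  · rw [MonoidHom.comp_apply, hν, monoidHomOfForallMemZpowers_apply_gen]; rfl
  · intro c hc
    obtain ⟨j, hj⟩ := mem_zpowers_iff.mp (hgen (q c))
    have hd2 : orderOf (q c) ∣ 2 ^ (n + 3) := by
      rw [← hord, ← hj]; exact orderOf_dvd_of_mem_zpowers ⟨j, rfl⟩
    have hd3 : orderOf (q c) ∣ 2 ^ (n + 1) := by
      obtain ⟨i, hi, heq⟩ := (Nat.dvd_prime_pow Nat.prime_two).mp hd2
      rw [heq]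
      refine pow_dvd_pow 2 ?_
      by_contra hcon
      apply hc
      rw [h.card_D, orderOf_coe]
      exact ((pow_dvd_pow 2 (by omega)).trans (dvd_of_eq heq.symm)).trans (orderOf_map_dvd q c)
    rw [orderOf_dvd_iff_pow_eq_one, ← hj, ← zpow_natCast, ← zpow_mul,
      ← orderOf_dvd_iff_zpow_eq_one, hord] at hd3
    have h4 : (4 : ℤ) ∣ j := by
      obtain ⟨w, hw⟩ := hd3
      refine ⟨w, mul_right_cancel₀ (pow_ne_zero (n + 1) two_ne_zero : (2 : ℤ) ^ (n + 1) ≠ 0) ?_⟩
      push_cast at hw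
      rw [hw]; ring
    rw [MonoidHom.comp_apply, ← hj, map_zpow, hν, monoidHomOfForallMemZpowers_apply_gen,
      ← orderOf_dvd_iff_zpow_eq_one]
    exact (Int.natCast_dvd_natCast.mpr (orderOf_dvd_of_pow_eq_one hi4)).trans h4
  · intro c c' hcc
    obtain ⟨j, hj⟩ := mem_zpowers_iff.mp (hgen (q c))
    have hk : q (c * (⟨a₁, ha⟩ ^ j)⁻¹) = 1 := by
      rw [map_mul, map_inv, map_zpow, hj, mul_inv_cancel]
    have hmemK := mem_subgroupOf.mp ((QuotientGroup.eq_one_iff _).mp hk)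
    have hsK : s ∈ normalizer (K : Set G) := hKN (h.S_le hsS)
    have hk' := (mem_normalizer_iff.mp hsK _).mp hmemK
    have h2 : q c' = (q c)⁻¹ := by
      rw [← hj, ← map_zpow, ← map_inv, hq, QuotientGroup.mk'_apply, QuotientGroup.mk'_apply,
        QuotientGroup.eq_iff_div_mem, mem_subgroupOf]
      convert hk' using 1
      have : s * a₁ ^ j * s⁻¹ = (a₁ ^ j)⁻¹ := by
        rw [← MulAut.conj_apply, map_zpow, MulAut.conj_apply, hinv, inv_zpow]
      simp only [div_eq_mul_inv, inv_inv, Subgroup.coe_mul, SubgroupClass.coe_zpow, InvMemClass.coe_inv,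
        hcc]
      calc s * (c : G) * s⁻¹ * a₁ ^ j = s * (c : G) * s⁻¹ * (s * a₁ ^ j * s⁻¹)⁻¹ := by
            rw [this, inv_inv]
        _ = s * ((c : G) * (a₁ ^ j)⁻¹) * s⁻¹ := by group
    rw [MonoidHom.comp_apply, MonoidHom.comp_apply, h2, map_inv]

theorem conj_linear {H : Type*} [Group H] [Finite H] (lam : H →* ℂˣ) (c : H) :
    conj (lam c : ℂ) = (lam c : ℂ)⁻¹ := by
  rw [← CharCore.IsCharacter.apply_inv (isCharacter_linear lam) c, map_inv, Units.val_inv_eq_inv_val]

theorem sum_linear_eq_zero {H : Type*} [Group H] [Fintype H] {lam : H →* ℂˣ} {x : H}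
    (hx : (lam x : ℂ) ≠ 1) : ∑ c, (lam c : ℂ) = 0 := by
  refine sum_hom_units_eq_zero ((Units.coeHom ℂ).comp lam) fun h => hx ?_
  exact DFunLike.congr_fun h x

theorem invol_mem (h : QuatLocal S n D) {z : G} (hz : z ∈ centralizer (D : Set G))
    (huniq : ∀ x ∈ (S : Subgroup G), x ^ 2 = 1 → x = 1 ∨ x = z) {x : G}
    (hx : x ∈ normalizer (D : Set G)) (hx2 : orderOf x = 2) : x ∈ centralizer (D : Set G) := by
  set N := normalizer (D : Set G)
  have hpg : IsPGroup 2 (zpowers (⟨x, hx⟩ : N)) :=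
    IsPGroup.of_card (n := 1) (by rw [Nat.card_zpowers, orderOf_mk, hx2, pow_one])
  obtain ⟨Q, hQ⟩ := hpg.exists_le_sylow
  obtain ⟨g, hg⟩ := MulAction.exists_smul_eq N Q (S.subtype h.S_le)
  have h1 := Subgroup.smul_mem_pointwise_smul _ (MulAut.conj g) _ (hQ (mem_zpowers _))
  rw [← Sylow.coe_subgroup_smul] at h1
  rw [hg, Sylow.coe_subtype] at h1
  have h2 : (g : G) * x * (g : G)⁻¹ ∈ (S : Subgroup G) := h1
  have h3 : orderOf ((g : G) * x * (g : G)⁻¹) = 2 := by
    rw [← hx2]; exact (MulAut.conj (g : G)).orderOf_eq x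
  have h4 := huniq _ h2 (h3 ▸ pow_orderOf_eq_one _)
  have h5 : (g : G) * x * (g : G)⁻¹ ∈ centralizer (D : Set G) := by
    rcases h4 with h4 | h4 <;> rw [h4]
    · exact one_mem _
    · exact hz
  exact (mem_normalizer_iff.mp ((normal_subgroupOf_iff_le_normalizer
    (centralizer_le_normalizer (D : Set G))).mp
      (by rw [← normalizerMonoidHom_ker]; infer_instance) g.2) x).mpr h5

/-- Values of the character induced from `1 - μ`. -/
theorem indFun_one_sub_mu (h : QuatLocal S n D) {s : G} (hsS : s ∈ (S : Subgroup G))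
    (hsC : s ∉ centralizer (D : Set G)) (μ : centralizer (D : Set G) →* ℂˣ)
    (hμ1 : ∀ c : centralizer (D : Set G), ¬ Nat.card D ∣ orderOf (c : G) → μ c = 1)
    (hμs : ∀ c c' : centralizer (D : Set G), (c' : G) = s * c * s⁻¹ → μ c' = (μ c)⁻¹)
    (c : centralizer (D : Set G)) :
    Cfsg.indFun (centralizer (D : Set G)) (fun c => 1 - (μ c : ℂ)) c =
      2 - (μ c : ℂ) - (μ c : ℂ)⁻¹ := by
  classical
  set N := normalizer (D : Set G) with hN
  have hCN : (centralizer (D : Set G)) ≤ N := centralizer_le_normalizer (D : Set G)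
  have hCn : N ≤ normalizer ((centralizer (D : Set G)) : Set G) :=
    (normal_subgroupOf_iff_le_normalizer hCN).mp (by rw [hN, ← normalizerMonoidHom_ker]; infer_instance)
  have hsN : s ∈ N := h.S_le hsS
  have two : ∀ x ∈ N, x ∉ (centralizer (D : Set G)) → s * x ∈ (centralizer (D : Set G)) := fun x hx hxC =>
    mem_subgroupOf.mp ((mul_mem_iff_of_index_two h.sup_S_eq.2 (a := ⟨s, hsN⟩) (b := ⟨x, hx⟩)).mpr
      (iff_of_false (fun h' => hsC h') (fun h' => hxC h')))
  have hterm : ∀ x : G, Cfsg.extendByZero (centralizer (D : Set G)) (fun c => 1 - (μ c : ℂ)) (x⁻¹ * c * x) =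
      (if x ∈ (centralizer (D : Set G)) then 1 - (μ c : ℂ) else 0) +
        (if x ∈ N ∧ x ∉ (centralizer (D : Set G)) then 1 - (μ c : ℂ)⁻¹ else 0) := by
    intro x
    by_cases hxC : x ∈ (centralizer (D : Set G))
    · rw [if_pos hxC, if_neg (fun h' => h'.2 hxC), add_zero,
        CharInd.extendByZero_mem _ (mul_mem (mul_mem (inv_mem hxC) c.2) hxC)]
      rw [show (⟨x⁻¹ * c * x, _⟩ : (centralizer (D : Set G))) = ⟨x, hxC⟩⁻¹ * c * ⟨x, hxC⟩ from rfl, map_mul, map_mul, map_inv,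
        mul_comm (μ ⟨x, hxC⟩)⁻¹ (μ c), inv_mul_cancel_right]
    by_cases hxN : x ∈ N
    · rw [if_neg hxC, if_pos ⟨hxN, hxC⟩, zero_add]
      have hsx := two x hxN hxC
      have hcs : s * (c : G) * s⁻¹ ∈ (centralizer (D : Set G)) := (mem_normalizer_iff.mp (hCn hsN) _).mp c.2
      have hm : x⁻¹ * c * x ∈ (centralizer (D : Set G)) := by
        have : x⁻¹ * c * x = (s * x)⁻¹ * (s * c * s⁻¹) * (s * x) := by group
        rw [this]; exact mul_mem (mul_mem (inv_mem hsx) hcs) hsx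
      rw [CharInd.extendByZero_mem _ hm]
      rw [show (⟨x⁻¹ * c * x, hm⟩ : (centralizer (D : Set G))) = ⟨s * x, hsx⟩⁻¹ * ⟨s * c * s⁻¹, hcs⟩ * ⟨s * x, hsx⟩ from
        Subtype.ext (by simp [mul_assoc]), map_mul, map_mul, map_inv,
        mul_comm (μ ⟨s * x, hsx⟩)⁻¹ _, inv_mul_cancel_right, hμs c ⟨s * c * s⁻¹, hcs⟩ rfl,
        Units.val_inv_eq_inv_val]
    · rw [if_neg hxC, if_neg (fun h' => hxN h'.1), add_zero]
      by_cases hm : x⁻¹ * c * x ∈ (centralizer (D : Set G))
      · rw [CharInd.extendByZero_mem _ hm]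
        rw [hμ1, Units.val_one, sub_self]
        intro hd
        apply hxN
        have := h.mem_normalizer_of_conj (g := x) hm hd
          (by rw [show x * (x⁻¹ * c * x) * x⁻¹ = (c : G) by group]; exact c.2)
        exact this
      · exact CharInd.extendByZero_notMem _ hm
  have hcardC : (Finset.univ.filter (· ∈ (centralizer (D : Set G)))).card = Nat.card (centralizer (D : Set G)) := by
    rw [Nat.card_eq_fintype_card, ← Fintype.card_subtype]
  have hswap : ∀ b : ℂ, ∑ x : G, (if x ∈ N ∧ x ∉ (centralizer (D : Set G)) then b else 0) = ∑ x : G, if x ∈ (centralizer (D : Set G)) then b else 0 := by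
    intro b
    refine (Fintype.sum_equiv (Equiv.mulLeft s) _ _ fun x => ?_).symm
    change (if x ∈ (centralizer (D : Set G)) then b else 0) =
      if s * x ∈ N ∧ s * x ∉ (centralizer (D : Set G)) then b else 0
    by_cases hx : x ∈ (centralizer (D : Set G))
    · rw [if_pos hx, if_pos ⟨mul_mem hsN (hCN hx), fun h' => hsC ((mul_mem_cancel_right hx).mp h')⟩]
    · rw [if_neg hx, if_neg]
      rintro ⟨h1, h2⟩
      exact h2 (two x ((mul_mem_cancel_left hsN).mp h1) hx)
  rw [CharInd.indFun_apply, Finset.sum_congr rfl (fun x _ => hterm x), Finset.sum_add_distrib, hswap,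
    ← Finset.sum_filter, ← Finset.sum_filter, Finset.sum_const, Finset.sum_const, hcardC,
    nsmul_eq_mul, nsmul_eq_mul, ← mul_add, inv_mul_cancel_left₀ (CharInd.natCard_subgroup_ne_zero (centralizer (D : Set G)))]
  ring

/-- The two exceptional characters of the Brauer–Suzuki argument. -/
theorem exists_exceptional (S : Sylow 2 G) (n : ℕ)
    (e : (S : Subgroup G) ≃* QuaternionGroup (2 ^ (n + 2))) :
    ∃ (z : G) (χ₁ χ₂ : Cfsg.IrrCharacter G), orderOf z = 2 ∧
      (∀ x : G, orderOf x = 2 → IsConj z x) ∧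
      (χ₁ : G → ℂ) ≠ 1 ∧ (χ₂ : G → ℂ) ≠ 1 ∧ (χ₂ : G → ℂ) 1 = (χ₁ : G → ℂ) 1 + 1 ∧
      (∀ g : G, ¬ 4 ∣ orderOf g → (χ₂ : G → ℂ) g - (χ₁ : G → ℂ) g = 1) ∧
      z ∈ transKer (χ₁ : G → ℂ) ∧ z ∈ transKer (χ₂ : G → ℂ) ∧
      IsCyclic ((S : Subgroup G) ⊓ (transKer (χ₁ : G → ℂ) ⊓ transKer (χ₂ : G → ℂ)) : Subgroup G) := by
  classical
  obtain ⟨D, hD⟩ : ∃ D, D = ⁅(S : Subgroup G), (S : Subgroup G)⁆ := ⟨_, rfl⟩
  have h := quatLocal_of_equiv S n e D hD
  obtain ⟨a₁, s, z, hP, ho, hsS, hsC, hsa, hz2, hzS, hzC, huniq, hcom⟩ := quat_gens S n e D hD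
  have ha : a₁ ∈ centralizer (D : Set G) := (hP.ge (mem_zpowers a₁)).2
  obtain ⟨μ, hμa, hμ1, hμs⟩ := exists_mu h hP ho hsS hsa ha
  set φ : (centralizer (D : Set G)) → ℂ := fun c => 1 - (μ c : ℂ) with hφ
  set Φ := Cfsg.indFun (centralizer (D : Set G)) φ with hΦ
  have hk4 : 4 ∣ Nat.card D := by rw [h.card_D]; exact ⟨2 ^ n, by ring⟩
  have hoff : ∀ g : G, ¬ 4 ∣ orderOf g → Φ g = 0 := by
    intro g hg
    rw [hΦ, CharInd.indFun_apply, Finset.sum_eq_zero, mul_zero]
    intro x _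
    by_cases hm : x⁻¹ * g * x ∈ (centralizer (D : Set G))
    · rw [CharInd.extendByZero_mem _ hm, hφ]
      simp only
      rw [hμ1, Units.val_one, sub_self]
      intro hd
      apply hg
      have : orderOf (x⁻¹ * g * x) = orderOf g := by
        have := (MulAut.conj x⁻¹).orderOf_eq g
        rwa [MulAut.conj_apply, inv_inv] at this
      exact hk4.trans (this ▸ hd)
    · exact CharInd.extendByZero_notMem _ hm
  have hone : Φ 1 = 0 := hoff 1 (by simp)
  have hconjz : ∀ x : G, orderOf x = 2 → IsConj z x := by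
    intro x hx
    have hpg : IsPGroup 2 (zpowers x) :=
      IsPGroup.of_card (n := 1) (by rw [Nat.card_zpowers, hx, pow_one])
    obtain ⟨Q, hQ⟩ := hpg.exists_le_sylow
    obtain ⟨g, hg⟩ := MulAction.exists_smul_eq G Q S
    have h1 := Subgroup.smul_mem_pointwise_smul _ (MulAut.conj g) _ (hQ (mem_zpowers x))
    rw [← Sylow.coe_subgroup_smul, hg] at h1
    have h2 : orderOf (g * x * g⁻¹) = 2 := by rw [← hx]; exact (MulAut.conj g).orderOf_eq x
    rcases huniq (g * x * g⁻¹) h1 (h2 ▸ pow_orderOf_eq_one _) with h3 | h3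
    · rw [h3, orderOf_one] at h2; exact absurd h2 (by norm_num)
    · exact (isConj_iff.mpr ⟨g, h3⟩).symm
  -- inner products
  have hμ₀ : ∀ j : ℂ, (Complex.I = j → False) → (μ ⟨a₁, ha⟩ : ℂ) ≠ j := fun j hj h' => hj (hμa ▸ h')
  have hI1 : (Complex.I : ℂ) ≠ 1 := fun h' => by simpa using congrArg Complex.re h'
  have s1 : ∑ c : (centralizer (D : Set G)), (μ c : ℂ) = 0 := sum_linear_eq_zero (x := ⟨a₁, ha⟩) (by rw [hμa]; exact hI1)
  have s2 : ∑ c : (centralizer (D : Set G)), (μ c : ℂ) ^ 2 = 0 := by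
    have := sum_linear_eq_zero (lam := μ ^ 2) (x := (⟨a₁, ha⟩ : (centralizer (D : Set G)))) (by
      rw [MonoidHom.pow_apply, Units.val_pow_eq_pow_val, hμa, Complex.I_sq]; norm_num)
    simpa using this
  have s3 : ∑ c : (centralizer (D : Set G)), (μ c : ℂ)⁻¹ = 0 := by
    have := sum_linear_eq_zero (lam := μ⁻¹) (x := (⟨a₁, ha⟩ : (centralizer (D : Set G)))) (by
      rw [MonoidHom.inv_apply, Units.val_inv_eq_inv_val, hμa, Complex.inv_I]
      exact fun h' => by simpa using congrArg Complex.re h')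
    simpa using this
  have hCne : (Nat.card (centralizer (D : Set G)) : ℂ) ≠ 0 := CharInd.natCard_subgroup_ne_zero (centralizer (D : Set G))
  have hin1 : Cfsg.classInner Φ (1 : G → ℂ) = 1 := by
    rw [hΦ, CharInd.classInner_indFun_left (centralizer (D : Set G)) φ (fun _ _ => rfl)]
    simp only [Cfsg.classInner, hφ, Pi.one_apply, map_one, mul_one, Finset.sum_sub_distrib, s1,
      sub_zero, Finset.sum_const, Finset.card_univ, nsmul_eq_mul]
    rw [Fintype.card_eq_nat_card, inv_mul_cancel₀ hCne]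
  have hin3 : Cfsg.classInner Φ Φ = 3 := by
    conv_lhs => arg 1; rw [hΦ]
    rw [CharInd.classInner_indFun_left (centralizer (D : Set G)) φ (CharInd.isClassFunction_indFun (centralizer (D : Set G)) φ)]
    have : ∀ c : (centralizer (D : Set G)), φ c * conj (Cfsg.indFun (centralizer (D : Set G)) φ c) = 3 - 3 * (μ c : ℂ) - (μ c : ℂ)⁻¹ + (μ c : ℂ) ^ 2 := by
      intro c
      rw [hφ, indFun_one_sub_mu h hsS hsC μ hμ1 hμs c, map_sub, map_sub, map_inv₀,
        conj_linear, inv_inv, map_ofNat]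
      have hne : (μ c : ℂ) ≠ 0 := Units.ne_zero _
      field_simp
      ring
    simp only [Cfsg.classInner, this, Finset.sum_add_distrib, Finset.sum_sub_distrib, ← Finset.mul_sum,
      s1, s2, s3, Finset.sum_const, Finset.card_univ, nsmul_eq_mul]
    rw [Fintype.card_eq_nat_card]
    field_simp
    ring
  -- decomposition
  obtain ⟨m1, hm1⟩ := CharCore.IsCharacter.exists_sum
    (CharInd.isCharacter_indFun (centralizer (D : Set G)) (CharCore.isCharacter_one (G := (centralizer (D : Set G)))))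
  obtain ⟨m2, hm2⟩ := CharCore.IsCharacter.exists_sum
    (CharInd.isCharacter_indFun (centralizer (D : Set G)) (isCharacter_linear μ))
  let a : Cfsg.IrrCharacter G → ℤ := fun ψ => (m1 ψ : ℤ) - m2 ψ
  have hdec : Φ = ∑ ψ, ((a ψ : ℤ) : ℂ) • (ψ : G → ℂ) := by
    have : φ = (1 : (centralizer (D : Set G)) → ℂ) - fun c => (μ c : ℂ) := rfl
    rw [hΦ, this, CharInd.indFun_sub, hm1, hm2, ← Finset.sum_sub_distrib]
    exact Finset.sum_congr rfl fun ψ _ => by simp [a, sub_smul]
  set one : Cfsg.IrrCharacter G := ⟨1, CharCore.isIrrCharacter_one⟩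
  have ha1 : a one = 1 := by
    have := hin1
    rw [hdec, show (1 : G → ℂ) = (one : G → ℂ) from rfl, CharCore.classInner_sum_all] at this
    exact_mod_cast this
  have ha3 : ∑ ψ, a ψ * a ψ = 3 := by
    have := hin3
    rw [hdec, CharCore.classInner_sum_sum] at this
    simp only [map_intCast] at this
    exact_mod_cast this
  obtain ⟨j, k, hj1, hk1, hjk, hjs, hks, hrest⟩ := int_sq_sum_three a one ha1 ha3
  have hval : ∀ g, Φ g = 1 + (a j : ℂ) * (j : G → ℂ) g + (a k : ℂ) * (k : G → ℂ) g := by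
    intro g
    rw [hdec, Finset.sum_apply,
      ← Finset.sum_subset (Finset.subset_univ {one, j, k}) (fun i _ hi => by
        simp only [Finset.mem_insert, Finset.mem_singleton, not_or] at hi
        simp [hrest i hi.1 hi.2.1 hi.2.2]),
      Finset.sum_insert (by simp [hj1.symm, hk1.symm]), Finset.sum_pair hjk]
    simp [ha1, one, add_assoc]
  have main : ∀ χ₁ χ₂ : Cfsg.IrrCharacter G, χ₁ ≠ one → χ₂ ≠ one →
      (∀ g, Φ g = 1 + (χ₁ : G → ℂ) g - (χ₂ : G → ℂ) g) →
      (χ₁ : G → ℂ) ≠ 1 ∧ (χ₂ : G → ℂ) ≠ 1 ∧ (χ₂ : G → ℂ) 1 = (χ₁ : G → ℂ) 1 + 1 ∧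
      (∀ g : G, ¬ 4 ∣ orderOf g → (χ₂ : G → ℂ) g - (χ₁ : G → ℂ) g = 1) ∧
      z ∈ transKer (χ₁ : G → ℂ) ∧ z ∈ transKer (χ₂ : G → ℂ) ∧
      IsCyclic ((S : Subgroup G) ⊓ (transKer (χ₁ : G → ℂ) ⊓ transKer (χ₂ : G → ℂ)) : Subgroup G) := by
    intro χ₁ χ₂ h1 h2 hv
    have hdeg : (χ₂ : G → ℂ) 1 = (χ₁ : G → ℂ) 1 + 1 := by linear_combination -(hv 1).symm.trans hone
    have hev : ∀ g : G, ¬ 4 ∣ orderOf g → (χ₂ : G → ℂ) g - (χ₁ : G → ℂ) g = 1 := fun g hg => by
      linear_combination -(hv g).symm.trans (hoff g hg)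
    have hzval := hev z (by rw [hz2]; norm_num)
    -- products of two involutions
    have hsum : ∑ x, ∑ y, BlocksCore.classInd z x * BlocksCore.classInd z y * Φ (x * y) = 0 := by
      refine Finset.sum_eq_zero fun x _ => Finset.sum_eq_zero fun y _ => ?_
      by_cases hx : IsConj z x
      swap
      · rw [BlocksCore.classInd_apply_of_not_isConj hx, zero_mul, zero_mul]
      by_cases hy : IsConj z y
      swap
      · rw [BlocksCore.classInd_apply_of_not_isConj hy, mul_zero, zero_mul]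
      rw [hΦ, CharInd.indFun_apply, Finset.sum_eq_zero, mul_zero, mul_zero]
      intro g _
      by_cases hm : g⁻¹ * (x * y) * g ∈ (centralizer (D : Set G))
      swap
      · exact CharInd.extendByZero_notMem _ hm
      rw [CharInd.extendByZero_mem _ hm, hφ]
      simp only
      by_cases hd : Nat.card D ∣ orderOf (g⁻¹ * (x * y) * g)
      swap
      · rw [hμ1 ⟨_, hm⟩ hd, Units.val_one, sub_self]
      have ord2 : ∀ w, IsConj z w → orderOf (g⁻¹ * w * g) = 2 := by
        intro w hw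
        obtain ⟨b, rfl⟩ := isConj_iff.mp hw
        rw [show g⁻¹ * (b * z * b⁻¹) * g = (g⁻¹ * b) * z * (g⁻¹ * b)⁻¹ by group, ← hz2]
        exact (MulAut.conj _).orderOf_eq z
      have sq1 : ∀ w : G, orderOf w = 2 → w * w = 1 := fun w hw => by
        rw [← sq, ← hw]; exact pow_orderOf_eq_one w
      obtain ⟨x', hx'⟩ : ∃ x', x' = g⁻¹ * x * g := ⟨_, rfl⟩
      obtain ⟨y', hy'⟩ : ∃ y', y' = g⁻¹ * y * g := ⟨_, rfl⟩
      have hox := ord2 x hx
      have hoy := ord2 y hy
      rw [← hx'] at hox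
      rw [← hy'] at hoy
      have hprod : g⁻¹ * (x * y) * g = x' * y' := by rw [hx', hy']; group
      have hxN : x' ∈ normalizer (D : Set G) := by
        refine h.mem_normalizer_of_conj hm hd ?_
        have : x' * (g⁻¹ * (x * y) * g) * x'⁻¹ = (g⁻¹ * (x * y) * g)⁻¹ := by
          rw [hprod, mul_inv_rev, inv_eq_of_mul_eq_one_left (sq1 y' hoy),
            inv_eq_of_mul_eq_one_left (sq1 x' hox), ← mul_assoc, sq1 x' hox, one_mul]
        rw [this]; exact inv_mem hm
      have hxC := invol_mem h hzC huniq hxN hox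
      have hyC : y' ∈ (centralizer (D : Set G)) := by
        rw [hprod] at hm; exact (mul_mem_cancel_left hxC).mp hm
      have not4 : ∀ w : (centralizer (D : Set G)), orderOf (w : G) = 2 → μ w = 1 := fun w hw => hμ1 w fun hd' => by
        have := Nat.le_of_dvd (by norm_num) (hk4.trans (hw ▸ hd')); omega
      rw [show (⟨g⁻¹ * (x * y) * g, hm⟩ : (centralizer (D : Set G))) = ⟨x', hxC⟩ * ⟨y', hyC⟩ from Subtype.ext hprod,
        map_mul, not4 ⟨x', hxC⟩ hox, not4 ⟨y', hyC⟩ hoy, mul_one, Units.val_one, sub_self]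
    have hsplit : ∑ x, ∑ y, BlocksCore.classInd z x * BlocksCore.classInd z y * Φ (x * y) =
        ∑ x, ∑ y, BlocksCore.classInd z x * BlocksCore.classInd z y * (one : G → ℂ) (x * y) +
        ∑ x, ∑ y, BlocksCore.classInd z x * BlocksCore.classInd z y * (χ₁ : G → ℂ) (x * y) -
        ∑ x, ∑ y, BlocksCore.classInd z x * BlocksCore.classInd z y * (χ₂ : G → ℂ) (x * y) := by
      simp only [hv, mul_add, mul_sub, Finset.sum_add_distrib, Finset.sum_sub_distrib]
      simp [one]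
    rw [hsum, sum_pairs_char, sum_pairs_char, sum_pairs_char] at hsplit
    have hK := class_card_ne_zero z
    have hd1 : (χ₁ : G → ℂ) 1 ≠ 0 := CharCore.irr_apply_one_ne_zero χ₁
    have hd2 : (χ₁ : G → ℂ) 1 + 1 ≠ 0 := hdeg ▸ CharCore.irr_apply_one_ne_zero χ₂
    have hyz : (χ₂ : G → ℂ) z = (χ₁ : G → ℂ) z + 1 := by linear_combination hzval
    rw [hdeg, hyz] at hsplit
    simp only [one, Pi.one_apply, mul_one, div_one] at hsplit
    field_simp at hsplit
    have hx1 : (χ₁ : G → ℂ) z = (χ₁ : G → ℂ) 1 := by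
      rw [zero_mul, zero_mul, eq_comm, mul_eq_zero, or_iff_right (pow_ne_zero 2 hK)] at hsplit
      have : ((χ₁ : G → ℂ) z - (χ₁ : G → ℂ) 1) ^ 2 = 0 := by linear_combination hsplit
      exact sub_eq_zero.mp (pow_eq_zero_iff (n := 2) two_ne_zero |>.mp this)
    have hz1 := mem_transKer_of_apply_eq (CharCore.irr_isCharacter χ₁) hx1
    have hz2' := mem_transKer_of_apply_eq (CharCore.irr_isCharacter χ₂) (g := z)
      (by rw [hyz, hx1, hdeg])
    refine ⟨fun h' => h1 (Subtype.ext h'), fun h' => h2 (Subtype.ext h'), hdeg, hev, hz1, hz2', ?_⟩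
    set M := transKer (χ₁ : G → ℂ) ⊓ transKer (χ₂ : G → ℂ) with hM
    haveI hn1 := transKer_normal (CharCore.irr_isClassFunction χ₁)
    haveI hn2 := transKer_normal (CharCore.irr_isClassFunction χ₂)
    haveI hMn : M.Normal := Subgroup.normal_inf_normal _ _
    have hle : (S : Subgroup G) ⊓ M ≤ zpowers a₁ := by
      rintro x ⟨hxS, hxM⟩
      by_contra hxP
      have hxC : x ∉ (centralizer (D : Set G)) := fun h' => hxP (hP.le ⟨hxS, h'⟩)
      have hsq : a₁ ^ 2 ∈ M := by
        rw [← inv_mem_iff, ← hcom x hxS hxC, show x * a₁ * x⁻¹ * a₁⁻¹ = x * (a₁ * x⁻¹ * a₁⁻¹) by group]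
        exact mul_mem hxM (hMn.conj_mem _ (inv_mem hxM) a₁)
      have e1 : Φ (a₁ ^ 2) = Φ 1 := by
        rw [hv, hv, apply_eq_one_of_mem_transKer hsq.1, apply_eq_one_of_mem_transKer hsq.2]
      have e2 : Φ (a₁ ^ 2) = 4 := by
        have := indFun_one_sub_mu h hsS hsC μ hμ1 hμs (⟨a₁, ha⟩ ^ 2)
        rw [map_pow, Units.val_pow_eq_pow_val, hμa, Complex.I_sq] at this
        refine this.trans ?_
        norm_num
      rw [e2, hone] at e1
      norm_num at e1
    exact Subgroup.isCyclic_of_le hle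
  have hdnat := fun ψ : Cfsg.IrrCharacter G => CharCore.IsIrrCharacter.exists_degree ψ.2
  rcases hjs with hj | hj <;> rcases hks with hk | hk
  · exfalso
    obtain ⟨dj, -, hdj⟩ := hdnat j
    obtain ⟨dk, -, hdk⟩ := hdnat k
    have := hval 1
    rw [hone, hj, hk, hdj, hdk] at this
    norm_num at this
    exact absurd (show (1 + dj + dk : ℕ) = 0 by exact_mod_cast this.symm) (by omega)
  · exact ⟨z, j, k, hz2, hconjz, main j k hj1 hk1 fun g => by rw [hval, hj, hk]; push_cast; ring⟩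
  · exact ⟨z, k, j, hz2, hconjz, main k j hk1 hj1 fun g => by rw [hval, hj, hk]; push_cast; ring⟩
  · exfalso
    obtain ⟨dj, hdj0, hdj⟩ := hdnat j
    obtain ⟨dk, hdk0, hdk⟩ := hdnat k
    have := hval 1
    rw [hone, hj, hk, hdj, hdk] at this
    have h' : ((dj + dk : ℕ) : ℂ) = ((1 : ℕ) : ℂ) := by push_cast at this ⊢; linear_combination this
    have := Nat.cast_injective h'
    omega

end Cfsg.Agent.CharDeep

namespace Cfsg.Agent.CharDeep

open Subgroup

variable {G : Type*} [Group G] [Fintype G]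

theorem isCyclic_sylow_of_eq_closure (S : Sylow 2 G) (n : ℕ)
    (e : (S : Subgroup G) ≃* QuaternionGroup (2 ^ (n + 2))) (I : Subgroup G)
    (hI : I = Subgroup.closure {g : G | orderOf g = 2}) (Q : Sylow 2 I) : IsCyclic Q := by
  obtain ⟨z, χ₁, χ₂, hz, hconj, -, -, -, -, hz1, hz2, hcyc⟩ := exists_exceptional S n e
  set M := transKer (χ₁ : G → ℂ) ⊓ transKer (χ₂ : G → ℂ) with hM
  haveI hn1 := transKer_normal (CharCore.irr_isClassFunction χ₁)
  haveI hn2 := transKer_normal (CharCore.irr_isClassFunction χ₂)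
  haveI hMn : M.Normal := Subgroup.normal_inf_normal _ _
  have hIM : I ≤ M := by
    rw [hI, closure_le]
    intro x hx
    obtain ⟨b, rfl⟩ := isConj_iff.mp (hconj x hx)
    exact hMn.conj_mem z ⟨hz1, hz2⟩ b
  set R := (Q : Subgroup I).map I.subtype with hR
  have hRp : IsPGroup 2 R := Q.isPGroup'.map _
  obtain ⟨T, hT⟩ := hRp.exists_le_sylow
  obtain ⟨g, hg⟩ := MulAction.exists_smul_eq G T S
  have hle : R.map (MulAut.conj g).toMonoidHom ≤ (S : Subgroup G) ⊓ M := by
    rintro _ ⟨r, hr, rfl⟩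
    refine ⟨?_, hMn.conj_mem r (hIM (map_subtype_le _ hr)) g⟩
    have h1 := Subgroup.smul_mem_pointwise_smul _ (MulAut.conj g) _ (hT hr)
    rw [← Sylow.coe_subgroup_smul, hg] at h1
    exact h1
  haveI := hcyc
  haveI : IsCyclic (R.map (MulAut.conj g).toMonoidHom) := Subgroup.isCyclic_of_le hle
  haveI : IsCyclic R :=
    (equivMapOfInjective R (MulAut.conj g).toMonoidHom (MulAut.conj g).injective).isCyclic.mpr inferInstance
  exact (equivMapOfInjective (Q : Subgroup I) _ I.subtype_injective).isCyclic.mpr inferInstance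

theorem isCyclic_sylow_closure_involutions (S : Sylow 2 G) (n : ℕ)
    (e : (S : Subgroup G) ≃* QuaternionGroup (2 ^ (n + 2)))
    (Q : Sylow 2 ↥(Subgroup.closure {g : G | orderOf g = 2})) : IsCyclic Q :=
  isCyclic_sylow_of_eq_closure S n e _ rfl Q

theorem card_center_of_quaternion (S : Sylow 2 G) (n : ℕ)
    (e : (S : Subgroup G) ≃* QuaternionGroup (2 ^ (n + 2)))
    (hO : ∀ N : Subgroup G, N.Normal → Odd (Nat.card N) → N = ⊥) :
    Nat.card (Subgroup.center G) = 2 := by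
  obtain ⟨D, hD⟩ : ∃ D, D = ⁅(S : Subgroup G), (S : Subgroup G)⁆ := ⟨_, rfl⟩
  obtain ⟨a₁, s, z, hP, ho, hsS, hsC, hsa, hz2, hzS, hzC, huniq, hcom⟩ := quat_gens S n e D hD
  set I := Subgroup.closure {g : G | orderOf g = 2} with hI
  have hIn : I.Normal := by
    constructor
    intro x hx b
    have : I ≤ I.comap (MulAut.conj b).toMonoidHom := by
      rw [hI, closure_le]
      intro y hy
      exact subset_closure (((MulAut.conj b).orderOf_eq y).trans hy)
    exact this hx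
  obtain ⟨Q⟩ := (Sylow.nonempty : Nonempty (Sylow 2 I))
  have hzI : z ∈ I := subset_closure hz2
  haveI : IsCyclic Q := isCyclic_sylow_closure_involutions S n e Q
  have heven : 2 ∣ Nat.card I := hz2 ▸ orderOf_dvd_natCard I hzI
  have hnc : normalizer (Q : Set I) ≤ centralizer (Q : Set I) :=
    IsCyclic.normalizer_le_centralizer ((Nat.minFac_eq_two_iff _).mpr heven) inferInstance
  set t := MonoidHom.transferSylow Q hnc
  have hodd : Odd (Nat.card t.ker) := by
    rw [Nat.odd_iff, ← Nat.two_dvd_ne_zero]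
    exact MonoidHom.not_dvd_card_ker_transferSylow Q hnc
  have hmem : ∀ x : I, x ∈ t.ker ↔ Odd (orderOf x) := by
    intro x
    refine ⟨fun hx => Odd.of_dvd_nat hodd (Subgroup.orderOf_dvd_natCard _ hx), fun ho' => ?_⟩
    change t x = 1
    rw [← orderOf_eq_one_iff]
    obtain ⟨j, hj⟩ := IsPGroup.iff_orderOf.mp Q.isPGroup' (t x)
    exact Nat.eq_one_of_dvd_coprimes ((Nat.coprime_two_left.mpr ho').pow_left j) (hj ▸ dvd_rfl)
      (orderOf_map_dvd t x)
  have hKbot : t.ker.map I.subtype = ⊥ := by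
    refine hO _ ⟨?_⟩ ?_
    · rintro _ ⟨x, hx, rfl⟩ b
      refine ⟨⟨b * x * b⁻¹, hIn.conj_mem x x.2 b⟩, ?_, rfl⟩
      rw [SetLike.mem_coe, hmem] at hx ⊢
      rw [← orderOf_coe] at hx ⊢
      rw [show orderOf (b * (x : G) * b⁻¹) = orderOf (x : G) from (MulAut.conj b).orderOf_eq _]
      exact hx
    · rwa [Nat.card_congr (equivMapOfInjective _ _ I.subtype_injective).toEquiv.symm]
  have hinj : Function.Injective t := by
    rw [← MonoidHom.ker_eq_bot_iff, ← map_eq_bot_iff_of_injective _ I.subtype_injective]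
    exact hKbot
  haveI : IsCyclic I := isCyclic_of_injective t hinj
  have hzcent : z ∈ Subgroup.center G := by
    rw [Subgroup.mem_center_iff]
    intro b
    have h2 : zpowers (b * z * b⁻¹) = zpowers z := by
      refine eq_of_card_eq_of_le_cyclic (P := I) (zpowers_le.mpr (hIn.conj_mem z hzI b))
        (zpowers_le.mpr hzI) ?_
      rw [Nat.card_zpowers, Nat.card_zpowers]
      exact (MulAut.conj b).orderOf_eq z
    obtain ⟨j, hj⟩ := mem_zpowers_iff.mp (h2 ▸ mem_zpowers (b * z * b⁻¹))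
    have h3 : b * z * b⁻¹ = z := by
      rcases Int.even_or_odd j with ⟨w, hw⟩ | ⟨w, hw⟩
      · exfalso
        rw [hw, ← two_mul, zpow_mul, zpow_two, ← sq, ← hz2, pow_orderOf_eq_one, one_zpow] at hj
        have hz1 : z = 1 := conj_eq_one_iff.mp hj.symm
        rw [hz1, orderOf_one] at hz2
        exact absurd hz2 (by norm_num)
      · rw [← hj, hw, zpow_add, zpow_mul, zpow_two, ← sq, ← hz2, pow_orderOf_eq_one, one_zpow,
          one_mul, zpow_one]
    exact mul_inv_eq_iff_eq_mul.mp h3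
  -- the centre is a 2-group inside `S`
  have hC2 : IsPGroup 2 (Subgroup.center G) := by
    rw [IsPGroup.iff_card]
    obtain ⟨j, m, hm, hcard⟩ := Nat.exists_eq_pow_mul_and_not_dvd
      (Nat.card_pos (α := Subgroup.center G)).ne' 2 (by norm_num)
    refine ⟨j, ?_⟩
    suffices m = 1 by rw [hcard, this, mul_one]
    by_contra hm1
    obtain ⟨p, hp, hpm⟩ := Nat.exists_prime_and_dvd hm1
    haveI := Fact.mk hp
    obtain ⟨x, hx⟩ := exists_prime_orderOf_dvd_card' (G := Subgroup.center G) p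
      (hcard ▸ dvd_mul_of_dvd_right hpm _)
    have hxn : (zpowers (x : G)).Normal := by
      constructor
      intro y hy b
      have hyc : y ∈ Subgroup.center G := (zpowers_le.mpr x.2) hy
      rwa [Subgroup.mem_center_iff.mp hyc b, mul_inv_cancel_right]
    have hp2 : Odd (Nat.card (zpowers (x : G))) := by
      rw [Nat.card_zpowers, orderOf_coe, hx]
      exact hp.odd_of_ne_two fun h => hm (h ▸ hpm)
    have := hO _ hxn hp2
    rw [zpowers_eq_bot, OneMemClass.coe_eq_one] at this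
    rw [this, orderOf_one] at hx
    exact hp.one_lt.ne hx
  obtain ⟨T, hT⟩ := hC2.exists_le_sylow
  obtain ⟨g, hg⟩ := MulAction.exists_smul_eq G T S
  have hCS : Subgroup.center G ≤ (S : Subgroup G) := by
    intro x hx
    have h1 := Subgroup.smul_mem_pointwise_smul _ (MulAut.conj g) _ (hT hx)
    rw [← Sylow.coe_subgroup_smul, hg, MulAut.smul_def, MulAut.conj_apply,
      Subgroup.mem_center_iff.mp hx g, mul_inv_cancel_right] at h1
    exact h1
  have hcz : Subgroup.center G = zpowers z := by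
    refine le_antisymm (fun x hx => ?_) (zpowers_le.mpr hzcent)
    have h1 : s * x * s⁻¹ = x := by rw [Subgroup.mem_center_iff.mp hx s, mul_inv_cancel_right]
    have h2 : x ∈ centralizer (D : Set G) := fun d _ => Subgroup.mem_center_iff.mp hx d
    obtain ⟨j, hj⟩ := mem_zpowers_iff.mp (hP.le ⟨hCS hx, h2⟩)
    rw [← hj, ← MulAut.conj_apply, map_zpow, MulAut.conj_apply, hsa, inv_zpow,
      inv_eq_iff_mul_eq_one, ← sq] at h1
    rcases huniq x (hCS hx) (hj ▸ h1) with h3 | h3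
    · exact h3 ▸ one_mem _
    · exact h3 ▸ mem_zpowers z
  rw [hcz, Nat.card_zpowers, hz2]

end Cfsg.Agent.CharDeep
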