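import Cfsg.Agent.CharDeep.ZassInvol
import Cfsg.Agent.Lib.Frobenius.Kernel

/-!
Existence of the kernel of a point stabiliser of a Zassenhaus group (Frobenius' theorem), and the
consequences for odd two-point stabilisers in simple groups.
-/

set_option autoImplicit false

namespace Cfsg.Agent.CharDeep.Zass

open MulAction
open scoped Pointwise

variable {G Ω : Type*} [Group G] [Fintype G] [MulAction G Ω] [Fintype Ω] [DecidableEq G]
  [DecidableEq Ω] (hZ : Cfsg.IsZassenhausGroup G Ω) {a b : Ω} (hab : a ≠ b)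

include hZ hab

omit [DecidableEq G] [DecidableEq Ω] in
theorem isFrobeniusComplement_two :
    Cfsg.IsFrobeniusComplement ((two G a b).subgroupOf (stabilizer G a)) := by
  refine ⟨?_, ?_, ?_⟩
  · intro h
    obtain ⟨x, hx, h1⟩ := exists_ne_one_two hZ hab
    have : (⟨x, hx.1⟩ : stabilizer G a) ∈ (two G a b).subgroupOf (stabilizer G a) := hx
    rw [h, Subgroup.mem_bot] at this
    exact h1 (congrArg Subtype.val this)
  · intro h
    obtain ⟨c, hc⟩ : ∃ c : Ω, c ≠ a ∧ c ≠ b := by
      classical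
      by_contra hh
      push Not at hh
      have h3 := three_le_card hZ hab
      have : (Finset.univ : Finset Ω) ⊆ {a, b} := fun c _ => by
        simp only [Finset.mem_insert, Finset.mem_singleton]
        exact or_iff_not_imp_left.2 (hh c)
      have := Finset.card_le_card this
      rw [Finset.card_univ, Finset.card_pair hab] at this
      omega
    obtain ⟨g, hga, hgb⟩ := exists_pair hZ hab (Ne.symm hc.1)
    have : (⟨g, hga⟩ : stabilizer G a) ∈ (two G a b).subgroupOf (stabilizer G a) := by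
      rw [h]; exact Subgroup.mem_top _
    exact hc.2 (hgb.symm.trans (this : g ∈ two G a b).2)
  · intro g hg
    rw [eq_bot_iff]
    intro y hy
    obtain ⟨hy1, hy2⟩ := hy
    replace hy2 : y ∈ MulAut.conj g • (two G a b).subgroupOf (stabilizer G a) := hy2
    rw [Subgroup.mem_pointwise_smul_iff_inv_smul_mem, MulAut.smul_def,
      MulAut.conj_inv_apply] at hy2
    rw [Subgroup.mem_bot]
    by_contra h1
    apply hg
    have hy1' : (y : G) ∈ two G a b := hy1
    have hy2' : (g : G)⁻¹ * y * g ∈ two G a b := hy2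
    have hgy : (y : G) • ((g : G) • b) = (g : G) • b := by
      have := congrArg ((g : G) • ·) (mem_two.1 hy2').2
      simpa [mul_smul] using this
    refine ⟨g.2, ?_⟩
    rcases fixed_of_mem_two hZ hab hy1' (fun h => h1 (Subtype.ext h)) hgy with h | h
    · exact absurd (MulAction.injective (g : G) (h.trans (mem_stabilizer_iff.1 g.2).symm)).symm hab
    · exact h

theorem exists_kernel : ∃ H : Subgroup G, IsKernel a H := by
  obtain ⟨N, hN, hNn, hc⟩ :=
    Cfsg.Agent.Frobenius.exists_frobeniusKernel_subgroup (isFrobeniusComplement_two hZ hab)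
  have h3 := three_le_card hZ hab
  refine ⟨N.map (stabilizer G a).subtype, Subgroup.map_subtype_le N, ?_, ?_⟩
  · rw [Subgroup.card_map_of_injective (stabilizer G a).subtype_injective]
    have h := hc.card_mul_card
    rw [Nat.card_congr (Subgroup.subgroupOfEquivOfLe inf_le_left).toEquiv,
      card_stabilizer hZ hab] at h
    have := Nat.eq_of_mul_eq_mul_right Nat.card_pos h
    omega
  · intro u hu hu1 c hc'
    obtain ⟨y, hy, rfl⟩ := Subgroup.mem_map.1 hu
    by_contra hca
    have hy' : y ∈ (N : Set (stabilizer G a)) := hy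
    rw [hN] at hy'
    rcases hy' with rfl | hy'
    · exact hu1 rfl
    obtain ⟨g, hga, hgb⟩ := exists_pair hZ hab (Ne.symm hca)
    refine hy' ⟨g, hga⟩ ?_
    rw [Subgroup.mem_pointwise_smul_iff_inv_smul_mem, MulAut.smul_def, MulAut.conj_inv_apply]
    have hyc : (y : G) • c = c := hc'
    have h1 : (g⁻¹ * y * g) • b = b := by
      rw [mul_smul, mul_smul, hgb, hyc, ← hgb, inv_smul_smul]
    have h2 : (g⁻¹ * (y : G) * g) • a = a := by
      rw [mul_smul, mul_smul, hga, mem_stabilizer_iff.1 y.2, inv_smul_eq_iff, hga]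
    exact ⟨h2, h1⟩

variable (hodd : Odd (Nat.card ↥(two G a b))) [IsSimpleGroup G]

include hodd

theorem inverts {w : G} (hw : w • a = b ∧ w • b = a) {x : G} (hx : x ∈ two G a b) :
    w * x * w⁻¹ = x⁻¹ := by
  obtain ⟨H, hH⟩ := exists_kernel hZ hab
  exact swap_inverts hZ hab hH hodd hw hx

theorem eq_one_of_sq {x : G} (hx : x ∈ two G a b) (h : x * x = 1) : x = 1 := by
  have h1 : orderOf (⟨x, hx⟩ : two G a b) ∣ 2 :=
    orderOf_dvd_of_pow_eq_one (Subtype.ext (by rw [pow_two]; exact h))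
  have h2 := orderOf_dvd_natCard (⟨x, hx⟩ : two G a b)
  have := Nat.eq_one_of_dvd_coprimes (Nat.coprime_two_right.2 hodd) h2 h1
  exact congrArg Subtype.val (orderOf_eq_one_iff.1 this)

theorem swap_sq {g : G} (hga : g • a = b) (hgb : g • b = a) : g * g = 1 := by
  have hx := swap_mul_mem ⟨hga, hgb⟩ ⟨hga, hgb⟩
  have h1 := inverts hZ hab hodd ⟨hga, hgb⟩ hx
  refine eq_one_of_sq hZ hab hodd hx ?_
  rw [show g * (g * g) * g⁻¹ = g * g by group] at h1
  nth_rewrite 1 [h1]
  exact inv_mul_cancel _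

theorem card_invs : (invs G).card = Nat.card ↥(two G a b) *
    (if Odd (Fintype.card Ω) then Fintype.card Ω else Fintype.card Ω - 1) := by
  split_ifs with hn
  · exact card_invs_of_odd hZ hab hodd hn
  · exact card_invs_of_even hZ hab hodd (Nat.not_odd_iff_even.1 hn)
      fun g h1 h2 => swap_sq hZ hab hodd h1 h2

/-- All involutions are conjugate. -/
theorem invs_conj {x y : G} (hx : x ∈ invs G) (hy : y ∈ invs G) : IsConj x y := by
  by_cases hn : Odd (Fintype.card Ω)
  · have key : ∀ z ∈ invs G, ∃ z' ∈ invAt G a, IsConj z z' := by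
      intro z hz
      have h1 := (inv_nfix hZ hab hodd hz).trans (if_pos hn)
      obtain ⟨c, hc⟩ := Finset.card_eq_one.1 h1
      have hzc : z • c = c := by
        have := Finset.ext_iff.1 hc c
        simpa using this
      have := pretransitive hZ
      obtain ⟨g, hg⟩ := MulAction.exists_smul_eq G c a
      refine ⟨g * z * g⁻¹, ?_, isConj_iff.2 ⟨g, rfl⟩⟩
      simp only [invAt, Finset.mem_filter]
      refine ⟨conj_mem_invs g hz, ?_⟩
      rw [← hg]
      simp [mul_smul, hzc]
    obtain ⟨x', hx', hxc⟩ := key x hx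
    obtain ⟨y', hy', hyc⟩ := key y hy
    obtain ⟨v, -, hv⟩ := invAt_conj hZ hab hodd hn hx' hy'
    exact hxc.trans ((isConj_iff.2 ⟨v, hv⟩).trans hyc.symm)
  · have hn' := Nat.not_odd_iff_even.1 hn
    have key : ∀ z ∈ invs G, ∃ z', z' • a = b ∧ z' • b = a ∧ IsConj z z' := by
      intro z hz
      have hzc := not_fix_of_even hZ hab hodd hn' hz a
      obtain ⟨g, hga, hgb⟩ := exists_pair hZ (Ne.symm hzc) hab
      refine ⟨g * z * g⁻¹, ?_, ?_, isConj_iff.2 ⟨g, rfl⟩⟩
      · rw [mul_smul, mul_smul, inv_smul_eq_iff.2 hga.symm, hgb]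
      · rw [mul_smul, mul_smul, inv_smul_eq_iff.2 hgb.symm, smul_smul_of_sq (mem_invs.1 hz).2, hga]
    obtain ⟨x', hxa, hxb, hxc⟩ := key x hx
    obtain ⟨y', hya, hyb, hyc⟩ := key y hy
    refine hxc.trans (IsConj.trans ?_ hyc.symm)
    have hv := swap_mul_mem (g := y') (w := x') ⟨hya, hyb⟩ ⟨hxa, hxb⟩
    obtain ⟨k, hk⟩ := hodd
    refine isConj_iff.2 ⟨(y' * x') ^ (k + 1), ?_⟩
    have hxi : x' * (y' * x') * x'⁻¹ = (y' * x')⁻¹ := inverts hZ hab ⟨k, hk⟩ ⟨hxa, hxb⟩ hv
    have hvk : (y' * x') ^ (2 * (k + 1)) = y' * x' := by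
      rw [show 2 * (k + 1) = Nat.card ↥(two G a b) + 1 by omega, pow_succ]
      have := pow_card_eq_one' (x := (⟨y' * x', hv⟩ : two G a b))
      have : (y' * x') ^ Nat.card ↥(two G a b) = 1 := by simpa using congrArg Subtype.val this
      rw [this, one_mul]
    calc (y' * x') ^ (k + 1) * x' * ((y' * x') ^ (k + 1))⁻¹
        = (y' * x') ^ (k + 1) * (x' * ((y' * x') ^ (k + 1))⁻¹ * x'⁻¹) * x' := by group
      _ = (y' * x') ^ (k + 1) * (y' * x') ^ (k + 1) * x' := by
          rw [← inv_pow, ← conj_pow, ← inv_inv (y' * x'), inv_inv (y' * x')⁻¹]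
          congr 2
          rw [show x' * (y' * x')⁻¹ * x'⁻¹ = (x' * (y' * x') * x'⁻¹)⁻¹ by group, hxi, inv_inv]
      _ = y' := by
          rw [← pow_add, show k + 1 + (k + 1) = 2 * (k + 1) by omega, hvk, mul_assoc,
            swap_sq hZ hab ⟨k, hk⟩ hxa hxb, mul_one]

end Cfsg.Agent.CharDeep.Zass
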