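import Cfsg.Prelude.Def_Characters
import Mathlib

/-! Elementary evaluation lemmas for `Cfsg.extendByZero` and `Cfsg.indFun`. -/

namespace Cfsg.Agent.CharDeep

open scoped BigOperators

variable {G : Type*} [Group G]

theorem extend_mem (H : Subgroup G) (θ : H → ℂ) {g : G} (h : g ∈ H) :
    Cfsg.extendByZero H θ g = θ ⟨g, h⟩ :=
  Subtype.val_injective.extend_apply θ 0 ⟨g, h⟩

theorem extend_not_mem (H : Subgroup G) (θ : H → ℂ) {g : G} (h : g ∉ H) :
    Cfsg.extendByZero H θ g = 0 := by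
  unfold Cfsg.extendByZero
  rw [Function.extend_apply' _ _ _ (by rintro ⟨a, rfl⟩; exact h a.2)]
  rfl

theorem extend_eq_dite (H : Subgroup G) [DecidablePred (· ∈ H)] (θ : H → ℂ) (g : G) :
    Cfsg.extendByZero H θ g = if h : g ∈ H then θ ⟨g, h⟩ else 0 := by
  split
  · exact extend_mem H θ ‹_›
  · exact extend_not_mem H θ ‹_›

theorem natCard_ne_zero [Finite G] : (Nat.card G : ℂ) ≠ 0 := by
  simp [Nat.card_pos.ne']

theorem index_eq_div [Finite G] (H : Subgroup G) :
    (H.index : ℂ) = (Nat.card H : ℂ)⁻¹ * (Nat.card G : ℂ) := by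
  rw [← H.card_mul_index, Nat.cast_mul, inv_mul_cancel_left₀ natCard_ne_zero]

end Cfsg.Agent.CharDeep
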