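import Mathlib

/-! Local structure at the derived subgroup of a generalized quaternion Sylow 2-subgroup. -/

namespace Cfsg.Agent.CharDeep

open Subgroup QuaternionGroup

theorem quat_two_ne_zero (k : ℕ) (hk : 3 ≤ k) : (4 : ZMod (2 * k)) ≠ 0 := by
  intro h
  have h' : ((4 : ℕ) : ZMod (2 * k)) = 0 := by exact_mod_cast h
  rw [ZMod.natCast_eq_zero_iff] at h'
  exact absurd (Nat.le_of_dvd (by norm_num) h') (by omega)

theorem quat_commutator_eq (k : ℕ) [NeZero k] :
    commutator (QuaternionGroup k) = zpowers (a 2 : QuaternionGroup k) := by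
  have hmem : ∀ i : ZMod (2 * k), (a (2 * i) : QuaternionGroup k) ∈ zpowers (a 2 : QuaternionGroup k) := by
    intro i
    have h : (a (2 * i) : QuaternionGroup k) = (a 2) ^ i.val := by
      rw [show (a 2 : QuaternionGroup k) = a 1 ^ 2 by simp, ← pow_mul, a_one_pow]
      simp
    rw [h]; exact Subgroup.npow_mem_zpowers _ _
  have inv_a : ∀ i : ZMod (2 * k), (a i : QuaternionGroup k)⁻¹ = a (-i) := fun _ => rfl
  have inv_xa : ∀ i : ZMod (2 * k), (xa i : QuaternionGroup k)⁻¹ = xa ((k : ZMod (2 * k)) + i) :=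
    fun _ => rfl
  have hkk : (k : ZMod (2 * k)) + (k : ZMod (2 * k)) = 0 := by
    rw [← two_mul, ← ZMod.natCast_self (2 * k)]; push_cast; ring
  refine le_antisymm ?_ ?_
  · rw [commutator_def, Subgroup.commutator_le]
    rintro (i | i) - (j | j) -
    · simp only [commutatorElement_def, inv_a, inv_xa, a_mul_a]
      convert hmem 0 using 2; ring
    · simp only [commutatorElement_def, inv_a, inv_xa, a_mul_a, a_mul_xa, xa_mul_a, xa_mul_xa]
      convert hmem i using 2; linear_combination hkk
    · simp only [commutatorElement_def, inv_a, inv_xa, a_mul_a, a_mul_xa, xa_mul_a, xa_mul_xa]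
      convert hmem (-j) using 2; linear_combination hkk
    · simp only [commutatorElement_def, inv_a, inv_xa, a_mul_a, a_mul_xa, xa_mul_a, xa_mul_xa]
      convert hmem (j - i) using 2; linear_combination hkk
  · rw [zpowers_le]
    have h := Subgroup.commutator_mem_commutator (G := QuaternionGroup k) (H₁ := ⊤) (H₂ := ⊤)
      (mem_top (a 1)) (mem_top (xa 0))
    simp only [commutatorElement_def, inv_a, inv_xa, a_mul_a, a_mul_xa, xa_mul_a, xa_mul_xa] at h
    rw [commutator_def]
    convert h using 2; linear_combination -hkk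

theorem quat_centralizer_a_two (k : ℕ) [NeZero k] (hk : 3 ≤ k) :
    centralizer ({a 2} : Set (QuaternionGroup k)) = zpowers (a 1 : QuaternionGroup k) := by
  ext x
  rw [mem_centralizer_singleton_iff]
  constructor
  · intro hx
    rcases x with i | i
    · rw [← ZMod.natCast_zmod_val i, ← a_one_pow]; exact Subgroup.npow_mem_zpowers _ _
    · exfalso
      simp only [a_mul_xa, xa_mul_a, xa.injEq] at hx
      exact quat_two_ne_zero k hk (by linear_combination hx)
  · rintro ⟨z, rfl⟩
    have h2 : (a 2 : QuaternionGroup k) = (a 1) ^ 2 := by simp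
    rw [h2]
    exact (((Commute.refl (a 1 : QuaternionGroup k)).zpow_left z).pow_right 2).eq

variable {G : Type*} [Group G] [Finite G]

/-- Facts about the derived subgroup `D`, its centraliser and normaliser, when a Sylow
2-subgroup `S` is generalized quaternion of order `2 ^ (n + 4)`. -/
structure QuatLocal (S : Sylow 2 G) (n : ℕ) (D : Subgroup G) : Prop where
  card_S : Nat.card S = 2 ^ (n + 4)
  card_D : Nat.card D = 2 ^ (n + 2)
  D_le : D ≤ (S : Subgroup G)
  cyclic_D : IsCyclic D
  S_le : (S : Subgroup G) ≤ normalizer (D : Set G)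
  card_P : Nat.card ((S : Subgroup G) ⊓ centralizer (D : Set G) : Subgroup G) = 2 ^ (n + 3)
  cyclic_P : IsCyclic ((S : Subgroup G) ⊓ centralizer (D : Set G) : Subgroup G)

theorem quatLocal_of_equiv (S : Sylow 2 G) (n : ℕ)
    (e : (S : Subgroup G) ≃* QuaternionGroup (2 ^ (n + 2))) (D : Subgroup G)
    (hD : D = ⁅(S : Subgroup G), (S : Subgroup G)⁆) : QuatLocal S n D := by
  set k := 2 ^ (n + 2) with hk
  have hk3 : 3 ≤ k := by
    have : 2 ^ 2 ≤ 2 ^ (n + 2) := Nat.pow_le_pow_right (by norm_num) (by omega)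
    omega
  let c : QuaternionGroup k →* G := (S : Subgroup G).subtype.comp e.symm.toMonoidHom
  have hc : Function.Injective c := Subtype.val_injective.comp e.symm.injective
  have hrange : c.range = (S : Subgroup G) := by
    rw [MonoidHom.range_comp, MonoidHom.range_eq_top.mpr e.symm.surjective,
      ← MonoidHom.range_eq_map, Subgroup.range_subtype]
  have hDc : D = zpowers (c (a 2)) := by
    rw [hD, ← hrange, MonoidHom.range_eq_map, ← Subgroup.map_commutator, ← commutator_def,
      quat_commutator_eq, MonoidHom.map_zpowers]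
  have hord : orderOf (a 2 : QuaternionGroup k) = k := by
    rw [show (a 2 : QuaternionGroup k) = a 1 ^ 2 by simp, orderOf_pow, orderOf_a_one,
      Nat.gcd_eq_right (dvd_mul_right 2 k), Nat.mul_div_cancel_left _ two_pos]
  have hPc : (S : Subgroup G) ⊓ centralizer (D : Set G) = zpowers (c (a 1)) := by
    rw [hDc, zpowers_eq_closure (c (a 2)), centralizer_closure, ← hrange]
    refine le_antisymm ?_ ?_
    · rintro _ ⟨⟨q, rfl⟩, hq⟩
      change c q ∈ centralizer {c (a 2)} at hq
      rw [mem_centralizer_singleton_iff, ← map_mul, ← map_mul] at hq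
      have : q ∈ centralizer ({a 2} : Set (QuaternionGroup k)) :=
        mem_centralizer_singleton_iff.mpr (hc hq)
      rw [quat_centralizer_a_two k hk3] at this
      rw [← MonoidHom.map_zpowers]
      exact mem_map_of_mem c this
    · rw [zpowers_le]
      refine ⟨⟨_, rfl⟩, ?_⟩
      change c (a 1) ∈ centralizer {c (a 2)}
      rw [mem_centralizer_singleton_iff, ← map_mul, ← map_mul, a_mul_a, a_mul_a, add_comm]
  refine ⟨?_, ?_, ?_, ?_, ?_, ?_, ?_⟩
  · rw [Nat.card_congr e.toEquiv, Nat.card_eq_fintype_card, QuaternionGroup.card, hk]; ring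
  · rw [hDc, Nat.card_zpowers, orderOf_injective c hc, hord]
  · rw [hDc, zpowers_le, ← hrange]; exact ⟨_, rfl⟩
  · rw [hDc]; infer_instance
  · rw [hD]
    haveI : (commutator (S : Subgroup G)).Normal := inferInstance
    intro g hg
    rw [mem_normalizer_iff]
    intro h
    rw [← map_subtype_commutator]
    constructor
    · rintro ⟨x, hx, rfl⟩
      exact ⟨⟨g, hg⟩ * x * ⟨g, hg⟩⁻¹, Normal.conj_mem inferInstance x hx _, rfl⟩
    · rintro ⟨x, hx, hxe⟩
      refine ⟨⟨g, hg⟩⁻¹ * x * ⟨g, hg⟩⁻¹⁻¹, Normal.conj_mem inferInstance x hx _, ?_⟩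
      simp only [inv_inv, Subgroup.subtype_apply, Subgroup.coe_mul, Subgroup.coe_inv] at hxe ⊢
      rw [hxe]; group
  · rw [hPc, Nat.card_zpowers, orderOf_injective c hc, orderOf_a_one, hk]; ring
  · rw [hPc]; infer_instance

variable {S : Sylow 2 G} {n : ℕ} {D : Subgroup G}

theorem QuatLocal.sup_S_eq (h : QuatLocal S n D) :
    centralizer (D : Set G) ⊔ (S : Subgroup G) = normalizer (D : Set G) ∧
      ((centralizer (D : Set G)).subgroupOf (normalizer (D : Set G))).index = 2 := by
  set C := centralizer (D : Set G) with hC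
  set N := normalizer (D : Set G) with hN
  have hCN : C ≤ N := centralizer_le_normalizer (D : Set G)
  haveI : (C.subgroupOf N).Normal := by
    rw [hC, hN, ← normalizerMonoidHom_ker]; infer_instance
  have hdvd : (C.subgroupOf N).index ∣ 2 ^ (n + 1) := by
    haveI := h.cyclic_D
    haveI : Finite (MulAut D) := Finite.of_injective MulEquiv.toEquiv MulEquiv.toEquiv_injective
    rw [hC, hN, ← normalizerMonoidHom_ker, index_ker]
    refine (card_subgroup_dvd_card _).trans ?_
    rw [IsCyclic.card_mulAut, h.card_D, Nat.totient_prime_pow Nat.prime_two (by omega),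
      show (2 - 1 : ℕ) = 1 from rfl, mul_one]
    exact pow_dvd_pow 2 (by omega)
  have h2 : C.relIndex (S : Subgroup G) = 2 := by
    rw [← inf_relIndex_right, inf_comm]
    have h1 := card_mul_index (((S : Subgroup G) ⊓ C).subgroupOf (S : Subgroup G))
    rw [Nat.card_congr (subgroupOfEquivOfLe inf_le_left).toEquiv, h.card_P, h.card_S,
      show 2 ^ (n + 4) = 2 ^ (n + 3) * 2 from pow_succ 2 (n + 3)] at h1
    exact Nat.eq_of_mul_eq_mul_left (by positivity) h1
  have hmid : (C ⊔ (S : Subgroup G)).relIndex N = 1 := by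
    refine Nat.eq_one_of_dvd_coprimes (a := 2 ^ (n + 1)) (b := (S : Subgroup G).relIndex N) ?_
      ?_ (relIndex_dvd_of_le_left N le_sup_right)
    · refine Nat.Coprime.pow_left _ ((Nat.prime_two.coprime_iff_not_dvd).mpr fun hd => ?_)
      exact S.not_dvd_index (hd.trans (relIndex_dvd_index_of_le h.S_le))
    · exact (relIndex_dvd_of_le_left N le_sup_left).trans hdvd
  rw [relIndex_eq_one] at hmid
  have heq : C ⊔ (S : Subgroup G) = N := le_antisymm (sup_le hCN h.S_le) hmid
  refine ⟨heq, ?_⟩
  have h3 := relIndex_sup_left ((S : Subgroup G).subgroupOf N) (C.subgroupOf N)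
  rw [← subgroupOf_sup hCN h.S_le, heq, subgroupOf_self, relIndex_top_right,
    relIndex_subgroupOf h.S_le, h2] at h3
  exact h3

/-- The `2`-part of `C_G(D)` is the cyclic group `S ⊓ C_G(D)`. -/
theorem QuatLocal.exists_sylow (h : QuatLocal S n D) :
    ∃ P : Sylow 2 (centralizer (D : Set G)),
      (P : Subgroup (centralizer (D : Set G))) =
        ((S : Subgroup G) ⊓ centralizer (D : Set G)).subgroupOf (centralizer (D : Set G)) := by
  set C := centralizer (D : Set G) with hC
  set P := (S : Subgroup G) ⊓ C with hP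
  have hPC : P ≤ C := inf_le_right
  have hpg : IsPGroup 2 (P.subgroupOf C) := (S.isPGroup'.to_le inf_le_left).comap_subtype
  refine ⟨hpg.toSylow ?_, rfl⟩
  intro hd
  have hd' : 2 ∣ P.relIndex C := hd
  have e1 : Nat.card P * P.relIndex C = Nat.card C := by
    rw [← relIndex_bot_left, ← relIndex_bot_left, relIndex_mul_relIndex _ _ _ bot_le hPC]
  have e2 : Nat.card C * C.relIndex (normalizer (D : Set G)) = Nat.card (normalizer (D : Set G)) := by
    rw [← relIndex_bot_left, ← relIndex_bot_left,
      relIndex_mul_relIndex _ _ _ bot_le (centralizer_le_normalizer (D : Set G))]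
  have e3 : Nat.card S * (S : Subgroup G).relIndex (normalizer (D : Set G)) =
      Nat.card (normalizer (D : Set G)) := by
    rw [← relIndex_bot_left, ← relIndex_bot_left, relIndex_mul_relIndex _ _ _ bot_le h.S_le]
  have e4 : C.relIndex (normalizer (D : Set G)) = 2 := h.sup_S_eq.2
  rw [← e3, ← e1, e4, h.card_P, h.card_S] at e2
  have : (S : Subgroup G).relIndex (normalizer (D : Set G)) = P.relIndex C := by
    have h16 : 2 ^ (n + 4) = 2 ^ (n + 3) * 2 := pow_succ 2 (n + 3)
    rw [h16] at e2
    exact (Nat.eq_of_mul_eq_mul_left (by positivity : 0 < 2 ^ (n + 3) * 2) (by linarith)).symm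
  exact S.not_dvd_index ((this ▸ hd').trans (relIndex_dvd_index_of_le h.S_le))

/-- The normal `2`-complement of `C_G(D)`: the elements of odd order. -/
theorem QuatLocal.exists_complement (h : QuatLocal S n D) :
    ∃ K : Subgroup G, Odd (Nat.card K) ∧ K ≤ centralizer (D : Set G) ∧
      (∀ x, x ∈ K ↔ x ∈ centralizer (D : Set G) ∧ Odd (orderOf x)) ∧
      normalizer (D : Set G) ≤ normalizer (K : Set G) ∧
      K ⊔ ((S : Subgroup G) ⊓ centralizer (D : Set G)) = centralizer (D : Set G) ∧
      K ⊔ (S : Subgroup G) = normalizer (D : Set G) := by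
  have hS := h.exists_sylow
  set C := centralizer (D : Set G) with hC
  obtain ⟨P, hP⟩ := hS
  haveI : IsCyclic P := by
    change IsCyclic (P : Subgroup C)
    rw [hP]
    haveI := h.cyclic_P
    exact (subgroupOfEquivOfLe inf_le_right).isCyclic.mpr inferInstance
  have hnc : normalizer (P : Set C) ≤ centralizer (P : Set C) := by
    refine IsCyclic.normalizer_le_centralizer ?_ inferInstance
    exact Nat.minFac_eq_two_iff _ |>.mpr ((dvd_pow_self 2 (by omega : n + 3 ≠ 0)).trans (by
      rw [← h.card_P]; exact card_dvd_of_le inf_le_right))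
  set t := MonoidHom.transferSylow P hnc
  have hmem : ∀ x, x ∈ t.ker.map C.subtype ↔ x ∈ C ∧ Odd (orderOf x) := by
    intro x
    constructor
    · rintro ⟨y, hy, rfl⟩
      refine ⟨y.2, ?_⟩
      rw [orderOf_injective C.subtype C.subtype_injective]
      exact Odd.of_dvd_nat (by rw [Nat.odd_iff, ← Nat.two_dvd_ne_zero]; exact MonoidHom.not_dvd_card_ker_transferSylow P hnc) (Subgroup.orderOf_dvd_natCard _ hy)
    · rintro ⟨hx, ho⟩
      refine ⟨⟨x, hx⟩, ?_, rfl⟩
      change t ⟨x, hx⟩ = 1
      rw [← orderOf_eq_one_iff]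
      obtain ⟨j, hj⟩ := IsPGroup.iff_orderOf.mp P.isPGroup' (t ⟨x, hx⟩)
      have hd : orderOf (t ⟨x, hx⟩) ∣ orderOf x := by
        rw [← orderOf_mk x hx]; exact orderOf_map_dvd t _
      exact Nat.eq_one_of_dvd_coprimes ((Nat.coprime_two_left.mpr ho).pow_left j) (hj ▸ dvd_rfl) hd
  have hsup : t.ker.map C.subtype ⊔ ((S : Subgroup G) ⊓ C) = C := by
    have := (MonoidHom.ker_transferSylow_isComplement' P hnc).sup_eq_top
    have h2 := congrArg (Subgroup.map C.subtype) this
    have hP' : (P : Subgroup C).map C.subtype = (S : Subgroup G) ⊓ C := by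
      rw [hP, subgroupOf_map_subtype, inf_assoc, inf_idem]
    rwa [Subgroup.map_sup, hP', ← MonoidHom.range_eq_map, Subgroup.range_subtype] at h2
  refine ⟨t.ker.map C.subtype, ?_, map_subtype_le _, hmem, ?_, hsup, ?_⟩
  · rw [Nat.card_congr (equivMapOfInjective _ _ C.subtype_injective).toEquiv.symm,
      Nat.odd_iff, ← Nat.two_dvd_ne_zero]
    exact MonoidHom.not_dvd_card_ker_transferSylow P hnc
  · intro g hg
    rw [mem_normalizer_iff]
    intro x
    have hg' : g ∈ normalizer (C : Set G) :=
      (normal_subgroupOf_iff_le_normalizer (centralizer_le_normalizer (D : Set G))).mp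
        (by rw [← normalizerMonoidHom_ker]; infer_instance) hg
    simp only [SetLike.mem_coe, hmem]
    rw [← mem_normalizer_iff.mp hg' x, ← (MulAut.conj g).orderOf_eq x]
    rfl
  · refine le_antisymm (sup_le ((map_subtype_le _).trans (centralizer_le_normalizer _)) h.S_le) ?_
    conv_lhs => rw [← h.sup_S_eq.1, ← hC, ← hsup]
    exact sup_le (sup_le le_sup_left (le_sup_of_le_right inf_le_left)) le_sup_right

end Cfsg.Agent.CharDeep

namespace Cfsg.Agent.CharDeep

open Subgroup

variable {G : Type*} [Group G] [Finite G]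

theorem eq_of_card_eq_of_le_cyclic {A B P : Subgroup G} [IsCyclic P] (hA : A ≤ P) (hB : B ≤ P)
    (h : Nat.card A = Nat.card B) : A = B := by
  classical
  have := Fintype.ofFinite P
  have key : ∀ E : Subgroup G, E ≤ P → Nat.card E = Nat.card A →
      (Finset.univ.filter fun x : P => (x : G) ∈ E) =
        Finset.univ.filter (fun x : P => x ^ Nat.card A = 1) := by
    intro E hE hcard
    refine Finset.eq_of_subset_of_card_le ?_ ?_
    · intro x hx
      simp only [Finset.mem_filter, Finset.mem_univ, true_and] at hx ⊢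
      apply Subtype.ext
      rw [SubgroupClass.coe_pow, OneMemClass.coe_one, ← hcard]
      exact congrArg Subtype.val (pow_card_eq_one' (x := (⟨(x : G), hx⟩ : E)))
    · refine (IsCyclic.card_pow_eq_one_le (Nat.card_pos)).trans (le_of_eq ?_)
      rw [← hcard, ← Fintype.card_subtype, ← Nat.card_eq_fintype_card]
      exact (Nat.card_congr (subgroupOfEquivOfLe hE).toEquiv).symm
  have h2 := (key A hA rfl).trans (key B hB h.symm).symm
  ext g
  constructor
  · intro hg
    have h3 := Finset.ext_iff.mp h2 ⟨g, hA hg⟩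
    simp only [Finset.mem_filter, Finset.mem_univ, true_and] at h3
    exact h3.mp hg
  · intro hg
    have h3 := Finset.ext_iff.mp h2 ⟨g, hB hg⟩
    simp only [Finset.mem_filter, Finset.mem_univ, true_and] at h3
    exact h3.mpr hg

variable {S : Sylow 2 G} {n : ℕ} {D : Subgroup G}

/-- Every element of `C_G(D)` of order divisible by `|D|` generates a subgroup containing `D`. -/
theorem QuatLocal.D_le_zpowers (h : QuatLocal S n D) {y : G}
    (hy : y ∈ centralizer (D : Set G)) (hd : Nat.card D ∣ orderOf y) : D ≤ zpowers y := by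
  set z := y ^ (orderOf y / Nat.card D) with hz
  have hzo : orderOf z = Nat.card D := by
    rw [hz, orderOf_pow, Nat.gcd_eq_right (Nat.div_dvd_of_dvd hd),
      Nat.div_div_self hd (orderOf_pos y).ne']
  have hzy : zpowers z ≤ zpowers y := zpowers_le.mpr (npow_mem_zpowers _ _)
  have hzC : zpowers z ≤ centralizer (D : Set G) := zpowers_le.mpr (pow_mem hy _)
  suffices hs : zpowers z = D by rwa [← hs]
  obtain ⟨P, hP⟩ := h.exists_sylow
  have hpg : IsPGroup 2 ((zpowers z).subgroupOf (centralizer (D : Set G))) :=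
    IsPGroup.of_card (n := n + 2)
      (by rw [Nat.card_congr (subgroupOfEquivOfLe hzC).toEquiv, Nat.card_zpowers, hzo, h.card_D])
  obtain ⟨Q, hQ⟩ := hpg.exists_le_sylow
  obtain ⟨c, hc⟩ := MulAction.exists_smul_eq (centralizer (D : Set G)) Q P
  have hmem : (c : G) * z * (c : G)⁻¹ ∈ (S : Subgroup G) ⊓ centralizer (D : Set G) := by
    have h1 : (⟨z, hzC (mem_zpowers z)⟩ : centralizer (D : Set G)) ∈ (Q : Subgroup _) :=
      hQ (mem_subgroupOf.mpr (mem_zpowers z))
    have h2 := Subgroup.smul_mem_pointwise_smul _ (MulAut.conj c) _ h1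
    rw [← Sylow.coe_subgroup_smul] at h2
    rw [hc, hP] at h2
    exact h2
  haveI := h.cyclic_P
  have heq : zpowers ((c : G) * z * (c : G)⁻¹) = D := by
    refine eq_of_card_eq_of_le_cyclic (P := (S : Subgroup G) ⊓ centralizer (D : Set G))
      (zpowers_le.mpr hmem) (le_inf h.D_le ?_) ?_
    · haveI := h.cyclic_D
      haveI : IsMulCommutative D := inferInstance
      exact le_centralizer D
    · rw [Nat.card_zpowers, ← hzo]; exact (MulAut.conj (c : G)).orderOf_eq z
  have hfix : ∀ d ∈ D, (c : G)⁻¹ * d * c = d := by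
    intro d hd'
    rw [mul_assoc, c.2 d hd', ← mul_assoc, inv_mul_cancel, one_mul]
  have hzD : z ∈ D := by
    have hw : (c : G) * z * (c : G)⁻¹ ∈ D := heq.le (mem_zpowers _)
    have := hfix _ hw
    rw [show (c : G)⁻¹ * ((c : G) * z * (c : G)⁻¹) * c = z by group] at this
    rwa [this]
  exact Subgroup.eq_of_le_of_card_ge (zpowers_le.mpr hzD) (by rw [Nat.card_zpowers, hzo])

/-- An element moving some element of `C_G(D)` of order divisible by `|D|` into `C_G(D)`
normalises `D`. -/
theorem QuatLocal.mem_normalizer_of_conj (h : QuatLocal S n D) {g y : G}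
    (hy : y ∈ centralizer (D : Set G)) (hd : Nat.card D ∣ orderOf y)
    (hgy : g * y * g⁻¹ ∈ centralizer (D : Set G)) : g ∈ normalizer (D : Set G) := by
  have ho : orderOf (g * y * g⁻¹) = orderOf y := (MulAut.conj g).orderOf_eq y
  have h1 := h.D_le_zpowers hgy (by rwa [ho])
  have h2 : D.map (MulAut.conj g).toMonoidHom ≤ zpowers (g * y * g⁻¹) := by
    refine (Subgroup.map_mono (h.D_le_zpowers hy hd)).trans ?_
    rw [MonoidHom.map_zpowers]; rfl
  have h3 := eq_of_card_eq_of_le_cyclic h2 h1
    (Nat.card_congr (D.equivMapOfInjective _ (MulAut.conj g).injective).toEquiv.symm)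
  rw [mem_normalizer_iff]
  intro x
  conv_rhs => rw [← h3]
  constructor
  · exact fun hx => mem_map_of_mem _ hx
  · rintro ⟨w, hw, hwx⟩
    exact (MulAut.conj g).injective hwx ▸ hw

end Cfsg.Agent.CharDeep
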