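import Mathlib
import Cfsg.Prelude.Def_LieExceptional

/-!
Elementary facts about finite Zassenhaus groups: two-point stabilisers, counting, and the
Frobenius kernel of a point stabiliser.
-/

set_option autoImplicit false

namespace Cfsg.Agent.CharDeep.Zass

open MulAction

variable {G Ω : Type*} [Group G] [MulAction G Ω]

/-- The stabiliser of two points. -/
abbrev two (G : Type*) {Ω : Type*} [Group G] [MulAction G Ω] (a b : Ω) : Subgroup G :=
  stabilizer G a ⊓ stabilizer G b

theorem mem_two {g : G} {a b : Ω} : g ∈ two G a b ↔ g • a = a ∧ g • b = b := Iff.rfl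

theorem conj_mem_two {g x : G} {a b : Ω} :
    g * x * g⁻¹ ∈ two G (g • a) (g • b) ↔ x ∈ two G a b := by
  simp [mem_two, mul_smul]

theorem two_comm (a b : Ω) : two G a b = two G b a := inf_comm _ _

variable (hZ : Cfsg.IsZassenhausGroup G Ω)

include hZ

theorem eq_one_of_three {g : G} {a b c : Ω} (hab : a ≠ b) (hbc : b ≠ c) (hac : a ≠ c)
    (ha : g • a = a) (hb : g • b = b) (hc : g • c = c) : g = 1 :=
  hZ.2.2.1 g a b c hab hbc hac ha hb hc

theorem exists_pair {a b c d : Ω} (hab : a ≠ b) (hcd : c ≠ d) :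
    ∃ g : G, g • a = c ∧ g • b = d :=
  MulAction.is_two_pretransitive_iff.1 hZ.2.1 hab hcd

theorem pretransitive : IsPretransitive G Ω :=
  have := hZ.2.1
  MulAction.isPretransitive_of_is_two_pretransitive

theorem fixed_of_mem_two {x : G} {a b c : Ω} (hab : a ≠ b) (hx : x ∈ two G a b) (h1 : x ≠ 1)
    (hc : x • c = c) : c = a ∨ c = b := by
  by_contra h
  push Not at h
  exact h1 (eq_one_of_three hZ hab (Ne.symm h.2) (Ne.symm h.1) hx.1 hx.2 hc)

theorem exists_ne_one_two {a b : Ω} (hab : a ≠ b) : ∃ x ∈ two G a b, x ≠ 1 := by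
  obtain ⟨g, hg, c, d, hcd, hc, hd⟩ := hZ.2.2.2.1
  obtain ⟨k, rfl, rfl⟩ := exists_pair hZ hcd hab
  exact ⟨k * g * k⁻¹, conj_mem_two.2 ⟨hc, hd⟩, fun h => hg (conj_eq_one_iff.1 h)⟩

theorem two_card_gt_one [Finite G] {a b : Ω} (hab : a ≠ b) : 1 < Nat.card ↥(two G a b) := by
  obtain ⟨x, hx, h1⟩ := exists_ne_one_two hZ hab
  exact Finite.one_lt_card_iff_nontrivial.2 ⟨⟨x, hx⟩, 1, fun h => h1 (congrArg Subtype.val h)⟩

theorem normalizer_two_iff {a b : Ω} (hab : a ≠ b) {g : G} :
    g ∈ Subgroup.normalizer (two G a b : Set G) ↔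
      (g • a = a ∧ g • b = b) ∨ (g • a = b ∧ g • b = a) := by
  rw [Subgroup.mem_normalizer_iff]
  constructor
  · intro h
    obtain ⟨x, hx, h1⟩ := exists_ne_one_two hZ hab
    have hx' := (h x).1 hx
    have hne : g * x * g⁻¹ ≠ 1 := fun h' => h1 (conj_eq_one_iff.1 h')
    have fa : (g * x * g⁻¹) • (g • a) = g • a := by simp [mul_smul, (mem_two.1 hx).1]
    have fb : (g * x * g⁻¹) • (g • b) = g • b := by simp [mul_smul, (mem_two.1 hx).2]
    have hne' : g • a ≠ g • b := fun h' => hab (MulAction.injective g h')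
    rcases fixed_of_mem_two hZ hab hx' hne fa with ha | ha <;>
      rcases fixed_of_mem_two hZ hab hx' hne fb with hb | hb
    · exact absurd (ha.trans hb.symm) hne'
    · exact Or.inl ⟨ha, hb⟩
    · exact Or.inr ⟨ha, hb⟩
    · exact absurd (ha.trans hb.symm) hne'
  · rintro (⟨ha, hb⟩ | ⟨ha, hb⟩) x
    · exact (conj_mem_two (g := g) (x := x) (a := a) (b := b)).symm.trans (by rw [ha, hb])
    · exact (conj_mem_two (g := g) (x := x) (a := a) (b := b)).symm.trans
        (by rw [ha, hb, two_comm])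

theorem exists_swap {a b : Ω} (hab : a ≠ b) : ∃ w : G, w • a = b ∧ w • b = a :=
  exists_pair hZ hab hab.symm

omit hZ in
theorem swap_mul_mem {a b : Ω} {g w : G} (hg : g • a = b ∧ g • b = a) (hw : w • a = b ∧ w • b = a) :
    g * w ∈ two G a b := by
  simp [mem_two, mul_smul, hg.1, hg.2, hw.1, hw.2]

/-- In odd order, some involution interchanges two given points. -/
theorem exists_involution_swap [Finite G] {a b : Ω} (hab : a ≠ b)
    (hodd : Odd (Nat.card ↥(two G a b))) :
    ∃ w : G, w * w = 1 ∧ w • a = b ∧ w • b = a ∧ orderOf w = 2 := by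
  obtain ⟨g, hga, hgb⟩ := exists_swap hZ hab
  obtain ⟨k, hk⟩ := hodd
  have hg2 : g * g ∈ two G a b := swap_mul_mem ⟨hga, hgb⟩ ⟨hga, hgb⟩
  have hp : (g * g) ^ Nat.card ↥(two G a b) = 1 := by
    have := pow_card_eq_one' (x := (⟨g * g, hg2⟩ : two G a b))
    simpa using congrArg Subtype.val this
  have hfix : ∀ j : ℕ, (g * g) ^ j ∈ two G a b := fun j => (two G a b).pow_mem hg2 j
  have e : g ^ Nat.card ↥(two G a b) = g * (g * g) ^ k := by
    rw [hk, pow_succ', pow_mul, pow_two]
  have ha : g ^ Nat.card ↥(two G a b) • a = b := by rw [e, mul_smul, (hfix k).1, hga]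
  have hb : g ^ Nat.card ↥(two G a b) • b = a := by rw [e, mul_smul, (hfix k).2, hgb]
  have hsq : g ^ Nat.card ↥(two G a b) * g ^ Nat.card ↥(two G a b) = 1 := by
    rw [← (Commute.refl g).mul_pow, hp]
  refine ⟨_, hsq, ha, hb, orderOf_eq_prime (by rw [pow_two]; exact hsq) fun h => hab ?_⟩
  rw [h, one_smul] at ha
  exact ha

/-- The order of a point stabiliser. -/
theorem card_stabilizer [Finite G] [Fintype Ω] {a b : Ω} (hab : a ≠ b) :
    Nat.card ↥(stabilizer G a) = (Fintype.card Ω - 1) * Nat.card ↥(two G a b) := by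
  classical
  have h1 := (stabilizer (stabilizer G a) b).card_mul_index
  rw [MulAction.index_stabilizer] at h1
  have horb : MulAction.orbit (stabilizer G a) b = {a}ᶜ := by
    ext c
    simp only [Set.mem_compl_iff, Set.mem_singleton_iff]
    constructor
    · rintro ⟨x, rfl⟩ h
      exact hab (MulAction.injective (x : G) ((mem_stabilizer_iff.1 x.2).trans h.symm))
    · intro h
      obtain ⟨g, hga, hgb⟩ := exists_pair hZ hab (Ne.symm h)
      exact ⟨⟨g, hga⟩, hgb⟩
  have hcard : Nat.card ↥(stabilizer (stabilizer G a) b) = Nat.card ↥(two G a b) :=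
    Nat.card_congr
      { toFun := fun x => ⟨(x : G), (x : stabilizer G a).2, x.2⟩
        invFun := fun x => ⟨⟨(x : G), x.2.1⟩, x.2.2⟩
        left_inv := fun _ => rfl
        right_inv := fun _ => rfl }
  rw [horb, hcard, Set.ncard_compl, Nat.card_eq_fintype_card (α := Ω), Set.ncard_singleton] at h1
  rw [← h1, mul_comm]

theorem card_group [Finite G] [Fintype Ω] {a b : Ω} (hab : a ≠ b) :
    Nat.card G = Fintype.card Ω * ((Fintype.card Ω - 1) * Nat.card ↥(two G a b)) := by
  have := pretransitive hZ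
  rw [← card_stabilizer hZ hab, ← (stabilizer G a).card_mul_index,
    MulAction.index_stabilizer_of_transitive, Nat.card_eq_fintype_card (α := Ω), mul_comm]

theorem card_two_eq [Finite G] [Fintype Ω] {a b c d : Ω} (hab : a ≠ b) (hcd : c ≠ d) :
    Nat.card ↥(two G c d) = Nat.card ↥(two G a b) := by
  obtain ⟨g, rfl, rfl⟩ := exists_pair hZ hab hcd
  refine Nat.card_congr
    { toFun := fun x => ⟨g⁻¹ * x * g, ?_⟩
      invFun := fun x => ⟨g * x * g⁻¹, conj_mem_two.2 x.2⟩
      left_inv := fun x => Subtype.ext (by simp [mul_assoc])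
      right_inv := fun x => Subtype.ext (by simp [mul_assoc]) }
  refine (conj_mem_two (g := g)).1 ?_
  rw [show g * (g⁻¹ * (x : G) * g) * g⁻¹ = (x : G) by group]
  exact x.2

theorem three_le_card [Finite G] [Fintype Ω] {a b : Ω} (hab : a ≠ b) : 3 ≤ Fintype.card Ω := by
  by_contra h
  obtain ⟨x, hx, h1⟩ := exists_ne_one_two hZ hab
  classical
  have hfix : ∀ c : Ω, x • c = c := by
    intro c
    by_cases hca : c = a
    · exact hca ▸ hx.1
    by_cases hcb : c = b
    · exact hcb ▸ hx.2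
    have h3 := Finset.card_le_univ ({a, b, c} : Finset Ω)
    rw [Finset.card_eq_three.2 ⟨a, b, c, hab, Ne.symm hca, Ne.symm hcb, rfl⟩] at h3
    omega
  have := hZ.1
  exact h1 (eq_of_smul_eq_smul fun c => by rw [hfix, one_smul])

end Cfsg.Agent.CharDeep.Zass
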