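import Cfsg.Agent.CharDeep.ZassFrobenius

/-!
A lower bound for the number of classes avoiding the kernel of a point stabiliser, by counting
pairs of involutions according to their product.
-/

set_option autoImplicit false

namespace Cfsg.Agent.CharDeep.Zass

open MulAction

variable {G Ω : Type*} [Group G] [Fintype G] [MulAction G Ω] [Fintype Ω] [DecidableEq G]
  [DecidableEq Ω]

/-- The number of involutions `x` with `x * g` an involution. -/
def invMul (g : G) : ℕ := ((invs G).filter fun x => x * g ∈ invs G).card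

theorem sum_invMul : ∑ g : G, invMul g = (invs G).card * (invs G).card := by
  simp only [invMul, Finset.card_filter]
  rw [Finset.sum_comm]
  refine Finset.sum_const_nat fun x _ => ?_
  rw [← Finset.card_filter]
  refine Finset.card_equiv (Equiv.mulLeft x) fun g => ?_
  simp

theorem invMul_inverts {g x : G} (hx : x ∈ invs G) (hxg : x * g ∈ invs G) :
    x * g * x⁻¹ = g⁻¹ := by
  have h2 := (mem_invs.1 hx).2
  have h3 := (mem_invs.1 hxg).2
  rw [inv_eq_of_mul_eq_one_right h2]
  refine (inv_eq_of_mul_eq_one_right ?_).symm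
  calc g * (x * g * x) = x * (x * g * (x * g)) * x := by
        simp only [← mul_assoc, h2, one_mul]
    _ = 1 := by rw [h3, mul_one, h2]

theorem invMul_le_centralizer (g : G) : invMul g ≤ Nat.card ↥(Subgroup.centralizer {g}) := by
  classical
  rw [invMul]
  by_cases hne : ((invs G).filter fun x => x * g ∈ invs G).Nonempty
  · obtain ⟨x₀, hx₀⟩ := hne
    simp only [Finset.mem_filter] at hx₀
    rw [Nat.card_eq_fintype_card, Fintype.card_subtype]
    refine Finset.card_le_card_of_injOn (fun x => x₀ * x) (fun x hx => ?_)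
      fun x _ y _ h => mul_left_cancel h
    simp only [Finset.coe_filter, Set.mem_setOf_eq, Finset.mem_univ, true_and,
      Subgroup.mem_centralizer_singleton_iff] at hx ⊢
    have h1 := invMul_inverts hx₀.1 hx₀.2
    have h2 := invMul_inverts hx.1 hx.2
    rw [mul_inv_eq_iff_eq_mul] at h1 h2
    calc x₀ * x * g = x₀ * (g⁻¹ * x) := by rw [mul_assoc, h2]
      _ = x₀ * g⁻¹ * x₀⁻¹ * (x₀ * x) := by group
      _ = (x₀ * g * x₀⁻¹)⁻¹ * (x₀ * x) := by group
      _ = g * (x₀ * x) := by rw [h1]; group
  · rw [Finset.not_nonempty_iff_eq_empty.1 hne]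
    simp

/-- The class sums of centraliser orders. -/
theorem sum_card_centralizer (s : Finset G) (hs : ∀ g ∈ s, ∀ c : G, c * g * c⁻¹ ∈ s)
    [DecidableEq (ConjClasses G)] :
    ∑ g ∈ s, Nat.card ↥(Subgroup.centralizer {g})
      = (s.image ConjClasses.mk).card * Nat.card G := by
  rw [← Finset.sum_fiberwise_of_maps_to (g := ConjClasses.mk)
    (fun g hg => Finset.mem_image_of_mem _ hg)]
  refine Finset.sum_const_nat fun C hC => ?_
  obtain ⟨g, hg, rfl⟩ := Finset.mem_image.1 hC
  have hcl : s.filter (fun x => ConjClasses.mk x = ConjClasses.mk g)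
      = Finset.univ.image (fun c : G => c * g * c⁻¹) := by
    ext x
    simp only [Finset.mem_filter, Finset.mem_image, Finset.mem_univ, true_and,
      ConjClasses.mk_eq_mk_iff_isConj]
    constructor
    · rintro ⟨-, hx⟩
      exact isConj_iff.1 hx.symm
    · rintro ⟨c, rfl⟩
      exact ⟨hs g hg c, (isConj_iff.2 ⟨c, rfl⟩).symm⟩
  rw [hcl]
  have hconst : ∀ x ∈ Finset.univ.image (fun c : G => c * g * c⁻¹),
      Nat.card ↥(Subgroup.centralizer {x}) = Nat.card ↥(Subgroup.centralizer {g}) := by
    intro x hx
    simp only [Finset.mem_image, Finset.mem_univ, true_and] at hx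
    obtain ⟨c, rfl⟩ := hx
    refine Nat.card_congr
      { toFun := fun y => ⟨c⁻¹ * y * c, ?_⟩
        invFun := fun y => ⟨c * y * c⁻¹, ?_⟩
        left_inv := fun y => Subtype.ext (by group)
        right_inv := fun y => Subtype.ext (by group) }
    · have := Subgroup.mem_centralizer_singleton_iff.1 y.2
      rw [Subgroup.mem_centralizer_singleton_iff]
      calc c⁻¹ * (y : G) * c * g = c⁻¹ * ((y : G) * (c * g * c⁻¹)) * c := by group
        _ = c⁻¹ * ((c * g * c⁻¹) * (y : G)) * c := by rw [this]
        _ = g * (c⁻¹ * (y : G) * c) := by group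
    · have := Subgroup.mem_centralizer_singleton_iff.1 y.2
      rw [Subgroup.mem_centralizer_singleton_iff]
      calc c * (y : G) * c⁻¹ * (c * g * c⁻¹) = c * ((y : G) * g) * c⁻¹ := by group
        _ = c * (g * (y : G)) * c⁻¹ := by rw [this]
        _ = c * g * c⁻¹ * (c * (y : G) * c⁻¹) := by group
  rw [Finset.sum_congr rfl hconst, Finset.sum_const, smul_eq_mul]
  have horb : (Finset.univ.image (fun c : G => c * g * c⁻¹)).card
      = (MulAction.orbit (ConjAct G) g).ncard := by
    rw [← Set.ncard_coe_finset, Finset.coe_image, Finset.coe_univ, Set.image_univ]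
    congr 1
  rw [horb, ← MulAction.index_stabilizer, ConjAct.stabilizer_eq_centralizer, mul_comm]
  exact Subgroup.card_mul_index (Subgroup.centralizer {g})

variable (hZ : Cfsg.IsZassenhausGroup G Ω) {a b : Ω} (hab : a ≠ b)
  (hodd : Odd (Nat.card ↥(two G a b))) [IsSimpleGroup G]

include hZ hab hodd

theorem invMul_two {g : G} (hg : nfix Ω g = 2) : invMul g ≤ Nat.card ↥(two G a b) := by
  obtain ⟨c, d, hcd, he⟩ := Finset.card_eq_two.1 hg
  have hm : ∀ t : Ω, g • t = t ↔ t = c ∨ t = d := fun t => by simpa using Finset.ext_iff.1 he t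
  refine le_trans ?_ ((card_invSwap_le hZ hcd).trans_eq (card_two_eq hZ hab hcd))
  refine Finset.card_le_card fun x hx => ?_
  simp only [Finset.mem_filter] at hx
  have h1 := invMul_inverts hx.1 hx.2
  have key : ∀ t : Ω, g • t = t → g • (x • t) = x • t := by
    intro t ht
    rw [mul_inv_eq_iff_eq_mul] at h1
    have h3 : x • t = g⁻¹ • (x • t) := by
      rw [← mul_smul, ← h1, mul_smul, ht]
    exact (inv_smul_eq_iff.1 h3.symm).symm
  rw [mem_invSwap]
  have hc := (hm _).1 (key c ((hm c).2 (Or.inl rfl)))
  have hd := (hm _).1 (key d ((hm d).2 (Or.inr rfl)))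
  have hne : x • c ≠ x • d := fun h => hcd (MulAction.injective x h)
  refine ⟨hx.1, ?_⟩
  rcases hc with hc | hc <;> rcases hd with hd | hd
  · exact absurd (hc.trans hd.symm) hne
  · exact absurd (fix_unique hZ hab hodd hx.1 hc hd) hcd
  · exact ⟨hc, hd⟩
  · exact absurd (hc.trans hd.symm) hne

theorem invMul_one : invMul (1 : G) = (invs G).card := by
  rw [invMul, Finset.filter_true_of_mem]
  intro x hx
  rwa [mul_one]

theorem exists_kernel_mem {g : G} (hg : nfix Ω g = 1) :
    ∃ (c : Ω) (K : Subgroup G), IsKernel c K ∧ g ∈ K ∧ g ≠ 1 := by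
  obtain ⟨c, hc⟩ := Finset.card_eq_one.1 hg
  have hm : ∀ t : Ω, g • t = t ↔ t = c := fun t => by simpa using Finset.ext_iff.1 hc t
  have h3 := three_le_card hZ hab
  obtain ⟨d, hd⟩ := Fintype.exists_ne_of_one_lt_card (by omega) c
  obtain ⟨K, hK⟩ := exists_kernel hZ (Ne.symm hd)
  refine ⟨c, K, hK, (mem_kernel_iff hZ hK).2 (Or.inr ⟨(hm c).2 rfl, fun t ht => (hm t).1 ht⟩), ?_⟩
  rintro rfl
  rw [nfix_one] at hg
  omega

theorem sum_invMul_one :
    ∑ g ∈ Finset.univ.filter (fun g : G => nfix Ω g = 1), invMul g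
      ≤ if Odd (Fintype.card Ω) then (invs G).card * (Nat.card ↥(two G a b) - 1) else 0 := by
  have h3 := three_le_card hZ hab
  -- a nonzero contribution comes only from involutions
  have hinv : ∀ g ∈ Finset.univ.filter (fun g : G => nfix Ω g = 1), invMul g ≠ 0 →
      g ∈ invs G ∧ Odd (Fintype.card Ω) := by
    intro g hg hne
    simp only [Finset.mem_filter, Finset.mem_univ, true_and] at hg
    obtain ⟨c, K, hK, hgK, hg1⟩ := exists_kernel_mem hZ hab hodd hg
    obtain ⟨x, hx⟩ := Finset.card_pos.1 (Nat.pos_of_ne_zero hne)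
    simp only [Finset.mem_filter] at hx
    obtain ⟨d, hd⟩ := Fintype.exists_ne_of_one_lt_card (by omega) c
    have hodd' : Odd (Nat.card ↥(two G c d)) := by rwa [card_two_eq hZ hab (Ne.symm hd)]
    have h := kernel_product_involution hZ (Ne.symm hd) hodd' hK hgK hg1 hx.1 hx.2
      (by rw [← mul_assoc, (mem_invs.1 hx.1).2, one_mul])
    refine ⟨mem_invs_iff_orderOf.2 h, ?_⟩
    by_contra hn
    have := not_fix_of_even hZ hab hodd (Nat.not_odd_iff_even.1 hn) (mem_invs_iff_orderOf.2 h) c
    exact this (mem_stabilizer_iff.1 (hK.le hgK))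
  split_ifs with hn
  · rw [← Finset.sum_filter_ne_zero]
    refine le_trans (Finset.sum_le_card_nsmul _ _ (Nat.card ↥(two G a b) - 1) ?_) ?_
    · intro g hg
      rw [Finset.mem_filter] at hg
      have hg' := (hinv g hg.1 hg.2).1
      obtain ⟨c, hc⟩ := Finset.card_eq_one.1 (Finset.mem_filter.1 hg.1).2
      have hgc : g • c = c := by simpa using Finset.ext_iff.1 hc c
      obtain ⟨d, hd⟩ := Fintype.exists_ne_of_one_lt_card (by omega) c
      have hodd' : Odd (Nat.card ↥(two G c d)) := by rwa [card_two_eq hZ hab (Ne.symm hd)]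
      have hle : invMul g ≤ ((invAt G c).erase g).card := by
        refine Finset.card_le_card fun x hx => ?_
        simp only [Finset.mem_filter] at hx
        have h1 := invMul_inverts hx.1 hx.2
        rw [inv_eq_of_mul_eq_one_right (mem_invs.1 hg').2, mul_inv_eq_iff_eq_mul] at h1
        rw [Finset.mem_erase, invAt, Finset.mem_filter]
        refine ⟨?_, hx.1, ?_⟩
        · rintro rfl
          exact (mem_invs.1 hx.2).1 (mem_invs.1 hg').2
        · refine (fix_unique hZ hab hodd hg' ?_ hgc)
          rw [← mul_smul, ← h1, mul_smul, hgc]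
      rw [Finset.card_erase_of_mem (show g ∈ invAt G c from Finset.mem_filter.2 ⟨hg', hgc⟩),
        card_invAt hZ (Ne.symm hd) hodd' hn c, card_invSwap_of_odd hZ (Ne.symm hd) hodd' hn,
        card_two_eq hZ hab (Ne.symm hd)] at hle
      exact hle
    · rw [smul_eq_mul]
      refine Nat.mul_le_mul_right _ (Finset.card_le_card fun g hg => ?_)
      rw [Finset.mem_filter] at hg
      exact (hinv g hg.1 hg.2).1
  · refine le_of_eq (Finset.sum_eq_zero fun g hg => ?_)
    by_contra hne
    exact hn (hinv g hg hne).2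

/-- At least `e` classes consist of elements fixing no or two points. -/
theorem card_classes [DecidableEq (ConjClasses G)]
    (hlt : 2 * Nat.card ↥(two G a b) < Fintype.card Ω - 2) :
    Nat.card ↥(two G a b) ≤
      (((Finset.univ.filter fun g : G => nfix Ω g = 0) ∪
        (Finset.univ.filter fun g : G => nfix Ω g = 2)).image ConjClasses.mk).card := by
  set e := Nat.card ↥(two G a b) with he
  set A0 := Finset.univ.filter fun g : G => nfix Ω g = 0 with hA0
  set A2 := Finset.univ.filter fun g : G => nfix Ω g = 2 with hA2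
  set N := (A0.image ConjClasses.mk).card with hN
  set M := (A2.image ConjClasses.mk).card with hM
  have h3 := three_le_card hZ hab
  have he1 := two_card_gt_one hZ hab
  rw [← he] at he1
  -- classes of elements with two fixed points
  have hM' : e - 1 ≤ 2 * M := by
    classical
    set E1 := (Finset.univ.filter fun g : G => g ∈ two G a b).erase 1 with hE1
    have hcard : E1.card = e - 1 := by
      rw [hE1, Finset.card_erase_of_mem (by simp), ← Fintype.card_subtype,
        ← Nat.card_eq_fintype_card]
    have hsub : E1 ⊆ A2 := by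
      intro g hg
      simp only [hE1, Finset.mem_erase, Finset.mem_filter, Finset.mem_univ, true_and] at hg
      simp only [hA2, Finset.mem_filter, Finset.mem_univ, true_and]
      refine le_antisymm (nfix_le_two hZ hg.1) ?_
      exact Finset.one_lt_card.2 ⟨a, by simpa using hg.2.1, b, by simpa using hg.2.2, hab⟩
    rw [← hcard]
    refine le_trans (Finset.card_le_mul_card_image (f := ConjClasses.mk) E1 2 ?_)
      (Nat.mul_le_mul_left 2 (Finset.card_le_card (Finset.image_subset_image hsub)))
    intro C hC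
    obtain ⟨g, hg, rfl⟩ := Finset.mem_image.1 hC
    refine le_trans (Finset.card_le_card (t := {g, g⁻¹}) fun y hy => ?_) Finset.card_le_two
    simp only [hE1, Finset.mem_erase, Finset.mem_filter, Finset.mem_univ, true_and,
      ConjClasses.mk_eq_mk_iff_isConj] at hy hg
    obtain ⟨c, hc⟩ := isConj_iff.1 hy.2.symm
    have hcn : (c • a = a ∧ c • b = b) ∨ (c • a = b ∧ c • b = a) := by
      have hne : c • a ≠ c • b := fun h => hab (MulAction.injective c h)
      have fa : y • (c • a) = c • a := by rw [← hc]; simp [mul_smul, (mem_two.1 hg.2).1]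
      have fb : y • (c • b) = c • b := by rw [← hc]; simp [mul_smul, (mem_two.1 hg.2).2]
      rcases fixed_of_mem_two hZ hab hy.1.2 hy.1.1 fa with h1 | h1 <;>
        rcases fixed_of_mem_two hZ hab hy.1.2 hy.1.1 fb with h2 | h2
      · exact absurd (h1.trans h2.symm) hne
      · exact Or.inl ⟨h1, h2⟩
      · exact Or.inr ⟨h1, h2⟩
      · exact absurd (h1.trans h2.symm) hne
    rw [Finset.mem_insert, Finset.mem_singleton]
    rcases hcn with h | h
    · obtain ⟨H, hH⟩ := exists_kernel hZ hab
      refine Or.inl ?_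
      rw [← hc, commute_two hZ hab hH hodd h hg.2, mul_inv_cancel_right]
    · refine Or.inr ?_
      rw [← hc]
      exact inverts hZ hab hodd h hg.2
  -- the double count
  have hsplit : ∑ g : G, invMul g = invMul (1 : G)
      + ((∑ g ∈ A0, invMul g) + (∑ g ∈ Finset.univ.filter (fun g : G => nfix Ω g = 1), invMul g)
        + ∑ g ∈ A2, invMul g) := by
    rw [← Finset.sum_union, ← Finset.sum_union, ← Finset.sum_insert]
    · refine Finset.sum_congr ?_ fun _ _ => rfl
      ext g
      simp only [hA0, hA2, Finset.mem_univ, Finset.mem_insert, Finset.mem_union, Finset.mem_filter,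
        true_and, true_iff]
      by_cases h1 : g = 1
      · exact Or.inl h1
      · rcases nfix_cases hZ h1 with h | h | h
        · exact Or.inr (Or.inl (Or.inl h))
        · exact Or.inr (Or.inl (Or.inr h))
        · exact Or.inr (Or.inr h)
    · simp only [hA0, hA2, Finset.mem_union, Finset.mem_filter, Finset.mem_univ, true_and,
        nfix_one]
      omega
    · simp only [hA0, hA2, Finset.disjoint_left, Finset.mem_union, Finset.mem_filter,
        Finset.mem_univ, true_and]
      omega
    · simp only [hA0, Finset.disjoint_left, Finset.mem_filter, Finset.mem_univ, true_and]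
      omega
  rw [sum_invMul, invMul_one hZ hab hodd] at hsplit
  have hb0 : ∑ g ∈ A0, invMul g ≤ N * Nat.card G := by
    refine le_trans (Finset.sum_le_sum fun g _ => invMul_le_centralizer g) (le_of_eq ?_)
    refine sum_card_centralizer A0 fun g hg c => ?_
    simpa [hA0, nfix_conj] using hg
  have hb2 : 2 * ∑ g ∈ A2, invMul g ≤ Fintype.card Ω * ((Fintype.card Ω - 1) * (e - 1)) * e := by
    have hcard2 : A2.card * 2 = Fintype.card Ω * ((Fintype.card Ω - 1) * (e - 1)) := by
      have h1 := sum_nfix (Ω := Ω) A2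
      rw [Finset.sum_congr rfl (fun g hg => (Finset.mem_filter.1 hg).2), Finset.sum_const,
        smul_eq_mul] at h1
      rw [h1, Finset.sum_const_nat (m := (Fintype.card Ω - 1) * (e - 1)), Finset.card_univ]
      intro c _
      obtain ⟨d, hd⟩ := Fintype.exists_ne_of_one_lt_card (by omega) c
      have h2 := card_fix_two_at hZ (Ne.symm hd)
      rw [card_two_eq hZ hab (Ne.symm hd), ← he] at h2
      rw [← h2, hA2, Finset.filter_filter]
      simp only [and_comm]
    calc 2 * ∑ g ∈ A2, invMul g ≤ 2 * (A2.card * e) :=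
          Nat.mul_le_mul_left 2 (Finset.sum_le_card_nsmul _ _ e
            fun g hg => invMul_two hZ hab hodd (Finset.mem_filter.1 hg).2)
      _ = _ := by rw [← hcard2]; ring
  have hb1 := sum_invMul_one hZ hab hodd
  rw [← he] at hb1
  have hunion : ((A0 ∪ A2).image ConjClasses.mk).card = N + M := by
    rw [Finset.image_union, Finset.card_union_of_disjoint, hN, hM]
    rw [Finset.disjoint_left]
    intro C h0 h2
    obtain ⟨g, hg, rfl⟩ := Finset.mem_image.1 h0
    obtain ⟨y, hy, hgy⟩ := Finset.mem_image.1 h2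
    obtain ⟨c, hc⟩ := isConj_iff.1 (ConjClasses.mk_eq_mk_iff_isConj.1 hgy)
    simp only [hA0, hA2, Finset.mem_filter, Finset.mem_univ, true_and] at hg hy
    rw [← hc, nfix_conj, hy] at hg
    omega
  rw [hunion]
  have hG := card_group hZ hab
  rw [← he] at hG
  have hT := card_invs hZ hab hodd
  rw [← he] at hT
  obtain ⟨t, ht⟩ := hodd
  obtain ⟨m, hm⟩ := Nat.exists_eq_add_of_le (show 1 ≤ Fintype.card Ω by omega)
  rw [hm, show 1 + m - 1 = m by omega] at hT hG hb2
  rw [hm] at hlt
  rw [ht] at hT hG hb2 hb1 hlt hM' ⊢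
  rw [show 2 * t + 1 - 1 = 2 * t by omega] at hb2 hM' hb1
  suffices t + 1 ≤ N by omega
  by_contra hcon
  push Not at hcon
  have hNle : N ≤ t := by omega
  rw [hG] at hb0
  have hb0' : ∑ g ∈ A0, invMul g ≤ t * ((1 + m) * (m * (2 * t + 1))) :=
    hb0.trans (Nat.mul_le_mul_right _ hNle)
  have hb2' : ∑ g ∈ A2, invMul g ≤ t * ((1 + m) * (m * (2 * t + 1))) := by
    have : (1 + m) * (m * (2 * t)) * (2 * t + 1) = 2 * (t * ((1 + m) * (m * (2 * t + 1)))) := by
      ring
    omega
  by_cases hn : Odd (Fintype.card Ω)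
  · rw [hm] at hn hb1
    rw [if_pos hn] at hT hb1
    rw [hT] at hb1 hsplit
    generalize ∑ g ∈ A0, invMul g = x at hsplit hb0'
    generalize ∑ g ∈ A2, invMul g = z at hsplit hb2'
    generalize ∑ g ∈ Finset.univ.filter (fun g : G => nfix Ω g = 1), invMul g = y at hsplit hb1
    have hpos : 0 < (1 + m) * (m * (2 * t + 1)) := by
      have : 0 < m := by omega
      positivity
    nlinarith
  · rw [hm] at hn hb1
    rw [if_neg hn] at hT hb1
    rw [hT] at hsplit
    generalize ∑ g ∈ A0, invMul g = x at hsplit hb0'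
    generalize ∑ g ∈ A2, invMul g = z at hsplit hb2'
    generalize ∑ g ∈ Finset.univ.filter (fun g : G => nfix Ω g = 1), invMul g = y at hsplit hb1
    have hpos : 0 < m * (2 * t + 1) := by
      have : 0 < m := by omega
      positivity
    have h4 : (2 * t + 1) * m ≤ 1 + 2 * t * (1 + m) := by
      refine Nat.le_of_mul_le_mul_left ?_ hpos
      nlinarith
    have : 4 * t + 3 < m := by omega
    nlinarith

end Cfsg.Agent.CharDeep.Zass
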