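import Cfsg.Agent.CharDeep.ZassFrobenius
import Cfsg.Agent.Lib.CharInd.Char
import Cfsg.Agent.Lib.CharCore.Linear
import Cfsg.Agent.Lib.CharCore.Virtual

/-!
Characters of a Zassenhaus group induced from linear characters of a point stabiliser.
-/

set_option autoImplicit false

namespace Cfsg.Agent.CharDeep.Zass

open MulAction
open scoped ComplexConjugate

variable {G Ω : Type*} [Group G] [Fintype G] [MulAction G Ω] [Fintype Ω]

/-- Inducing from a point stabiliser in a transitive action: the sum over the points. -/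
theorem indFun_eq_sum_fix {a : Ω} {θ : stabilizer G a → ℂ}
    (hθ : Cfsg.IsClassFunction (stabilizer G a) θ) (σ : Ω → G) (hσ : ∀ c, σ c • a = c) (g : G) :
    Cfsg.indFun (stabilizer G a) θ g
      = ∑ c : Ω, Cfsg.extendByZero (stabilizer G a) θ ((σ c)⁻¹ * g * σ c) := by
  classical
  have key : ∀ x : G, Cfsg.extendByZero (stabilizer G a) θ (x⁻¹ * g * x)
      = Cfsg.extendByZero (stabilizer G a) θ ((σ (x • a))⁻¹ * g * σ (x • a)) := by
    intro x
    have hmem : (σ (x • a))⁻¹ * x ∈ stabilizer G a := by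
      rw [mem_stabilizer_iff, mul_smul, inv_smul_eq_iff, hσ]
    rw [← Cfsg.Agent.CharInd.extendByZero_conj_mem hθ ⟨_, hmem⟩ (x⁻¹ * g * x)]
    simp only [mul_inv_rev, inv_inv, mul_assoc, mul_inv_cancel_left, inv_mul_cancel_left]
  rw [Cfsg.Agent.CharInd.indFun_apply, Finset.sum_congr rfl fun x _ => key x,
    ← Finset.sum_fiberwise_of_maps_to (t := (Finset.univ : Finset Ω))
      (g := fun x : G => x • a) (fun x _ => Finset.mem_univ _), Finset.mul_sum]
  refine Finset.sum_congr rfl fun c _ => ?_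
  rw [Finset.sum_congr rfl fun x hx => by rw [(Finset.mem_filter.1 hx).2],
    Finset.sum_const, nsmul_eq_mul, ← mul_assoc]
  have hcard : (Finset.univ.filter fun x : G => x • a = c).card = Nat.card ↥(stabilizer G a) := by
    rw [← Nat.card_eq_finsetCard]
    refine Nat.card_congr
      { toFun := fun x => ⟨(σ c)⁻¹ * x.1, by
          rw [mem_stabilizer_iff, mul_smul, (Finset.mem_filter.1 x.2).2, inv_smul_eq_iff, hσ]⟩
        invFun := fun h => ⟨σ c * h.1, Finset.mem_filter.2 ⟨Finset.mem_univ _, by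
          rw [mul_smul, mem_stabilizer_iff.1 h.2, hσ]⟩⟩
        left_inv := fun x => Subtype.ext (by simp)
        right_inv := fun h => Subtype.ext (by simp) }
  rw [hcard, inv_mul_cancel₀ (Nat.cast_ne_zero.2 Nat.card_pos.ne'), one_mul]

theorem extendByZero_eq_zero_of_moved {a : Ω} {θ : stabilizer G a → ℂ} {σ : Ω → G}
    (hσ : ∀ c, σ c • a = c) {g : G} {c : Ω} (hc : g • c ≠ c) :
    Cfsg.extendByZero (stabilizer G a) θ ((σ c)⁻¹ * g * σ c) = 0 := by
  refine Cfsg.Agent.CharInd.extendByZero_notMem _ fun h => hc ?_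
  have h' : ((σ c)⁻¹ * g * σ c) • a = a := h
  rw [mul_smul, mul_smul, hσ, inv_smul_eq_iff, hσ] at h'
  exact h'

variable [DecidableEq G] [DecidableEq Ω] (hZ : Cfsg.IsZassenhausGroup G Ω) {a b : Ω} (hab : a ≠ b)
  (f : stabilizer G a →* ℂˣ)

include hZ hab

omit [DecidableEq G] [DecidableEq Ω] in
theorem indFun_hom_one :
    Cfsg.indFun (stabilizer G a) (fun s => (f s : ℂ)) 1 = (Fintype.card Ω : ℂ) := by
  classical
  have := pretransitive hZ
  have hθ := Cfsg.Agent.CharCore.IsCharacter.isClassFunction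
    (Cfsg.Agent.CharCore.IsIrrCharacter.isCharacter (Cfsg.Agent.CharCore.isIrrCharacter_hom f))
  choose σ hσ using fun c : Ω => MulAction.exists_smul_eq G a c
  rw [indFun_eq_sum_fix hθ σ hσ]
  simp [Cfsg.Agent.CharInd.extendByZero_mem (H := stabilizer G a) _ (one_mem _)]
  rw [show (⟨1, one_mem _⟩ : stabilizer G a) = 1 from rfl, map_one, Units.val_one, mul_one]

omit [DecidableEq G] in
/-- The value at an element fixing only `a`. -/
theorem indFun_hom_fix_one {g : G} (hga : g • a = a) (h1 : nfix Ω g = 1) :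
    Cfsg.indFun (stabilizer G a) (fun s => (f s : ℂ)) g = (f ⟨g, hga⟩ : ℂ) := by
  classical
  have := pretransitive hZ
  have hθ := Cfsg.Agent.CharCore.IsCharacter.isClassFunction
    (Cfsg.Agent.CharCore.IsIrrCharacter.isCharacter (Cfsg.Agent.CharCore.isIrrCharacter_hom f))
  choose σ₀ hσ₀ using fun c : Ω => MulAction.exists_smul_eq G a c
  obtain ⟨c₀, hc₀⟩ := Finset.card_eq_one.1 h1
  have hm : ∀ c, g • c = c → c = a := by
    intro c hc
    have e1 : c = c₀ := by simpa [hc] using Finset.ext_iff.1 hc₀ c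
    have e2 : a = c₀ := by simpa [hga] using Finset.ext_iff.1 hc₀ a
    exact e1.trans e2.symm
  set σ := Function.update σ₀ a 1 with hσdef
  have hσ : ∀ c, σ c • a = c := by
    intro c
    by_cases h : c = a
    · rw [h, hσdef, Function.update_self, one_smul]
    · rw [hσdef, Function.update_of_ne h, hσ₀]
  rw [indFun_eq_sum_fix hθ σ hσ, Finset.sum_eq_single a
    (fun c _ hc => extendByZero_eq_zero_of_moved hσ fun h => hc (hm c h))
    (fun h => absurd (Finset.mem_univ a) h), hσdef, Function.update_self]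
  simp [Cfsg.Agent.CharInd.extendByZero_mem (H := stabilizer G a) _ (show g ∈ stabilizer G a from hga)]

variable [IsSimpleGroup G]

omit [DecidableEq G] [DecidableEq Ω] in
/-- The value at an element fixing `a` and a second point. -/
theorem indFun_hom_fix_two {c : Ω} (hca : c ≠ a) (hodd : Odd (Nat.card ↥(two G a b))) {g : G}
    (hg : g ∈ two G a c) (hg1 : g ≠ 1) :
    Cfsg.indFun (stabilizer G a) (fun s => (f s : ℂ)) g
      = (f ⟨g, hg.1⟩ : ℂ) + ((f ⟨g, hg.1⟩ : ℂ))⁻¹ := by
  classical
  have := pretransitive hZ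
  have hθ := Cfsg.Agent.CharCore.IsCharacter.isClassFunction
    (Cfsg.Agent.CharCore.IsIrrCharacter.isCharacter (Cfsg.Agent.CharCore.isIrrCharacter_hom f))
  obtain ⟨w, hw⟩ := exists_swap hZ (Ne.symm hca)
  choose σ₀ hσ₀ using fun d : Ω => MulAction.exists_smul_eq G a d
  set σ := Function.update (Function.update σ₀ c w) a 1 with hσdef
  have hσa : σ a = 1 := Function.update_self ..
  have hσc : σ c = w := by rw [hσdef, Function.update_of_ne hca, Function.update_self]
  have hσ : ∀ d, σ d • a = d := by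
    intro d
    by_cases h : d = a
    · rw [h, hσa, one_smul]
    by_cases h' : d = c
    · rw [h', hσc, hw.1]
    · rw [hσdef, Function.update_of_ne h, Function.update_of_ne h', hσ₀]
  have hodd' : Odd (Nat.card ↥(two G a c)) := by rwa [card_two_eq hZ hab (Ne.symm hca)]
  have hwinv : w⁻¹ • a = c ∧ w⁻¹ • c = a := by
    constructor <;> rw [inv_smul_eq_iff]
    · exact hw.2.symm
    · exact hw.1.symm
  have hconj : w⁻¹ * g * w = g⁻¹ := by
    simpa using inverts hZ (Ne.symm hca) hodd' hwinv hg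
  rw [indFun_eq_sum_fix hθ σ hσ, Finset.sum_eq_add a c (Ne.symm hca)
    (fun d _ hd => extendByZero_eq_zero_of_moved hσ fun h =>
      (fixed_of_mem_two hZ (Ne.symm hca) hg hg1 h).elim hd.1 hd.2)
    (fun h => absurd (Finset.mem_univ a) h) (fun h => absurd (Finset.mem_univ c) h), hσa, hσc, hconj]
  have hgi : g⁻¹ ∈ stabilizer G a := inv_mem hg.1
  rw [Cfsg.Agent.CharInd.extendByZero_mem (H := stabilizer G a) _ hgi]
  simp only [inv_one, one_mul, mul_one]
  rw [Cfsg.Agent.CharInd.extendByZero_mem (H := stabilizer G a) _ hg.1]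
  congr 1
  rw [show (⟨g⁻¹, hgi⟩ : stabilizer G a) = (⟨g, hg.1⟩ : stabilizer G a)⁻¹ from rfl, map_inv,
    Units.val_inv_eq_inv_val]

variable (hodd : Odd (Nat.card ↥(two G a b))) {H : Subgroup G} (hH : IsKernel a H)
  (hfH : ∀ u : stabilizer G a, (u : G) ∈ H → f u = 1) (hne : ∃ s, f s ≠ 1)

include hodd hH hfH hne

theorem isIrr_indFun_hom :
    Cfsg.IsIrrCharacter G (Cfsg.indFun (stabilizer G a) (fun s => (f s : ℂ))) := by
  classical
  set χ := Cfsg.indFun (stabilizer G a) (fun s => (f s : ℂ)) with hχdef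
  have hθc := (Cfsg.Agent.CharCore.IsIrrCharacter.isCharacter (Cfsg.Agent.CharCore.isIrrCharacter_hom f))
  have hχ : Cfsg.IsCharacter G χ := Cfsg.Agent.CharInd.isCharacter_indFun _ hθc
  have h3 := three_le_card hZ hab
  -- a two-point stabiliser on which `f` is non-trivial
  set ν : two G a b →* ℂˣ := f.comp (Subgroup.inclusion inf_le_left) with hν
  have hν2 : ν * ν ≠ 1 := by
    intro h
    obtain ⟨⟨s, hsa⟩, hs⟩ := hne
    obtain ⟨u, hu, x, hx, rfl⟩ := exists_kernel_mul hZ hab hH hsa
    apply hs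
    rw [show (⟨u * x, hsa⟩ : stabilizer G a) = ⟨u, hH.le hu⟩ * ⟨x, hx.1⟩ from rfl, map_mul,
      hfH ⟨u, hH.le hu⟩ hu, one_mul]
    have h1 : ν ⟨x, hx⟩ * ν ⟨x, hx⟩ = 1 := DFunLike.congr_fun h (⟨x, hx⟩ : two G a b)
    have h2 := orderOf_map_dvd ν (⟨x, hx⟩ : two G a b)
    have h3 := Nat.eq_one_of_dvd_coprimes (Nat.coprime_two_right.2 hodd)
      (h2.trans (orderOf_dvd_natCard _)) (orderOf_dvd_of_pow_eq_one ((pow_two _).trans h1))
    exact orderOf_eq_one_iff.1 h3
  refine Cfsg.Agent.CharCore.IsGeneralizedCharacter.isIrr_of_norm_one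
    (Cfsg.Agent.CharCore.IsCharacter.isGeneralized hχ) ?_ ?_
  swap
  · rw [hχdef, indFun_hom_one hZ hab f]
    simp only [Complex.natCast_re, Nat.cast_pos]
    omega
  nth_rewrite 1 [hχdef]
  rw [Cfsg.Agent.CharInd.classInner_indFun_left _ _
    (Cfsg.Agent.CharCore.IsCharacter.isClassFunction hχ), Cfsg.classInner]
  set F : G → ℂ := fun g => if h : g • a = a then (f ⟨g, h⟩ : ℂ) * conj (χ g) else 0 with hF
  have hsum : ∑ s : stabilizer G a, (f s : ℂ) * conj (χ s)
      = ∑ g ∈ Finset.univ.filter (fun g : G => g • a = a), F g := by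
    rw [Finset.sum_subtype (Finset.univ.filter fun g : G => g • a = a) (p := fun g => g ∈ stabilizer G a)
      (fun g => by simp) F]
    refine Finset.sum_congr rfl fun s _ => ?_
    simp only [hF, dif_pos (mem_stabilizer_iff.1 s.2)]
  rw [hsum]
  set S1 := Finset.univ.filter fun g : G => g • a = a ∧ nfix Ω g = 1 with hS1
  set T : Ω → Finset G :=
    fun c => (Finset.univ.filter fun g : G => g • a = a ∧ g • c = c).erase 1 with hT
  have hsplit : (Finset.univ.filter fun g : G => g • a = a)
      = insert 1 (S1 ∪ (Finset.univ.erase a).biUnion T) := by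
    ext g
    simp only [hS1, hT, Finset.mem_filter, Finset.mem_univ, true_and, Finset.mem_insert,
      Finset.mem_union, Finset.mem_biUnion, Finset.mem_erase, and_true]
    constructor
    · intro hga
      by_cases h1 : g = 1
      · exact Or.inl h1
      rcases nfix_cases hZ h1 with h | h | h
      · exact absurd hga (nfix_eq_zero.1 h a)
      · exact Or.inr (Or.inl ⟨hga, h⟩)
      · obtain ⟨c, hc, d, hd, hcd⟩ := Finset.one_lt_card.1 (h.symm ▸ (by norm_num) : 1 < nfix Ω g)
        simp only [Finset.mem_filter, Finset.mem_univ, true_and] at hc hd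
        by_cases hca : c = a
        · exact Or.inr (Or.inr ⟨d, fun h => hcd (hca.trans h.symm), h1, hga, hd⟩)
        · exact Or.inr (Or.inr ⟨c, hca, h1, hga, hc⟩)
    · rintro (rfl | h | ⟨c, -, -, h, -⟩)
      · exact one_smul G a
      · exact h.1
      · exact h
  have hv1 : F 1 = (Fintype.card Ω : ℂ) := by
    simp only [hF, dif_pos (one_smul G a)]
    rw [hχdef, indFun_hom_one hZ hab f, show (⟨1, one_smul G a⟩ : stabilizer G a) = 1 from rfl,
      map_one, Complex.conj_natCast, Units.val_one, one_mul]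
  have hvS : ∀ g ∈ S1, F g = 1 := by
    intro g hg
    simp only [hS1, Finset.mem_filter, Finset.mem_univ, true_and] at hg
    simp only [hF, dif_pos hg.1]
    rw [hχdef, indFun_hom_fix_one hZ hab f hg.1 hg.2, Complex.mul_conj',
      Cfsg.Agent.CharCore.norm_hom_apply]
    simp
  have hT2 : ∀ c ∈ Finset.univ.erase a, ∀ g ∈ T c, g • a = a ∧ g • c = c ∧ g ≠ 1 := by
    intro c _ g hg
    simp only [hT, Finset.mem_erase, Finset.mem_filter, Finset.mem_univ, true_and] at hg
    exact ⟨hg.2.1, hg.2.2, hg.1⟩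
  have hvT : ∀ c ∈ Finset.univ.erase a,
      ∑ g ∈ T c, F g = (Nat.card ↥(two G a b) : ℂ) - 2 := by
    intro c hc
    have hca := Finset.ne_of_mem_erase hc
    have he : Nat.card ↥(two G a c) = Nat.card ↥(two G a b) := card_two_eq hZ hab (Ne.symm hca)
    obtain ⟨v, hv, hvb⟩ := kernel_regular hZ hab hH hca
    have hva : v • a = a := mem_stabilizer_iff.1 (hH.le hv)
    set M : G → ℂ := fun g => if h : g • a = a then (f ⟨g, h⟩ : ℂ) ^ 2 else 0 with hM
    have h1 : ∀ g ∈ T c, F g = 1 + M g := by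
      intro g hg
      obtain ⟨hga, hgc, hg1⟩ := hT2 c hc g hg
      simp only [hF, hM, dif_pos hga]
      rw [hχdef, indFun_hom_fix_two hZ hab f hca hodd ⟨hga, hgc⟩ hg1]
      have hn := Cfsg.Agent.CharCore.norm_hom_apply f ⟨g, hga⟩
      have hc' : conj (f ⟨g, hga⟩ : ℂ) = (f ⟨g, hga⟩ : ℂ)⁻¹ := (Complex.inv_eq_conj hn).symm
      have hne0 : (f ⟨g, hga⟩ : ℂ) ≠ 0 := Units.ne_zero _
      simp only [map_add, map_inv₀, hc', inv_inv]
      field_simp
    have hall : ∑ g ∈ Finset.univ.filter (fun g : G => g • a = a ∧ g • c = c), M g = 0 := by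
      have hbij : ∑ g ∈ Finset.univ.filter (fun g : G => g • a = a ∧ g • c = c), M g
          = ∑ x : two G a b, (((ν * ν) x : ℂˣ) : ℂ) := by
        refine Finset.sum_bij'
          (fun g hg => (⟨v⁻¹ * g * v, (conj_mem_two (g := v) (a := a) (b := b)).1 (by
            simp only [Finset.mem_filter, Finset.mem_univ, true_and] at hg
            rw [show v * (v⁻¹ * g * v) * v⁻¹ = g by group, hva, hvb]
            exact hg)⟩ : two G a b))
          (fun x _ => v * (x : G) * v⁻¹) (fun g hg => Finset.mem_univ _) ?_ ?_ ?_ ?_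
        · intro x _
          have := (conj_mem_two (g := v) (x := (x : G)) (a := a) (b := b)).2 x.2
          rw [hva, hvb] at this
          simpa using this
        · intro g _; group
        · intro x _; exact Subtype.ext (by simp [mul_assoc])
        · intro g hg
          simp only [Finset.mem_filter, Finset.mem_univ, true_and] at hg
          simp only [hM, dif_pos hg.1]
          have hmem : (v⁻¹ * g * v) • a = a := by
            rw [mul_smul, mul_smul, hva, hg.1, inv_smul_eq_iff, hva]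
          rw [MonoidHom.mul_apply, Units.val_mul, ← pow_two, hν, MonoidHom.comp_apply]
          congr 2
          change f ⟨g, hg.1⟩ = f ⟨v⁻¹ * g * v, hmem⟩
          rw [show (⟨v⁻¹ * g * v, hmem⟩ : stabilizer G a)
              = ⟨v, hH.le hv⟩⁻¹ * ⟨g, hg.1⟩ * ⟨v, hH.le hv⟩ from Subtype.ext rfl, map_mul, map_mul,
            map_inv, hfH ⟨v, hH.le hv⟩ hv, inv_one, one_mul, mul_one]
      rw [hbij]
      exact sum_hom_units_eq_zero ((Units.coeHom ℂ).comp (ν * ν)) (fun h => hν2
        (MonoidHom.ext fun x => Units.ext (DFunLike.congr_fun h x :)))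
    have hM1 : M 1 = 1 := by
      simp only [hM, dif_pos (one_smul G a)]
      rw [show (⟨1, one_smul G a⟩ : stabilizer G a) = 1 from rfl, map_one, Units.val_one, one_pow]
    rw [← Finset.add_sum_erase _ _ (show (1 : G) ∈ Finset.univ.filter
      (fun g : G => g • a = a ∧ g • c = c) by simp), hM1] at hall
    have h4 : ∑ g ∈ T c, M g = -1 := by linear_combination hall
    have h5 : (T c).card = Nat.card ↥(two G a b) - 1 := by
      rw [hT, Finset.card_erase_of_mem (by simp), ← Fintype.card_subtype,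
        ← Nat.card_eq_fintype_card, ← he]
      rfl
    rw [Finset.sum_congr rfl h1, Finset.sum_add_distrib, h4, Finset.sum_const, nsmul_one, h5,
      Nat.cast_sub (by have := two_card_gt_one hZ hab; omega)]
    push_cast
    ring
  rw [hsplit, Finset.sum_insert, Finset.sum_union, Finset.sum_biUnion, Finset.sum_congr rfl hvS,
    Finset.sum_congr rfl hvT, hv1, Finset.sum_const, Finset.sum_const, card_fix_one_at hZ hab,
    card_stabilizer hZ hab, Finset.card_erase_of_mem (Finset.mem_univ a), Finset.card_univ]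
  · have h1 := two_card_gt_one hZ hab
    obtain ⟨m, hm⟩ := Nat.exists_eq_add_of_le (show 2 ≤ Fintype.card Ω by omega)
    rw [hm, show 2 + m - 2 = m by omega, show 2 + m - 1 = m + 1 by omega]
    have hne0 : ((((m + 1) * Nat.card ↥(two G a b)) : ℕ) : ℂ) ≠ 0 :=
      Nat.cast_ne_zero.2 (Nat.mul_ne_zero (by omega) (by omega))
    rw [inv_mul_eq_one₀ hne0]
    simp only [nsmul_eq_mul]
    push_cast
    ring
  · intro c hc d hd hcd
    rw [Function.onFun, Finset.disjoint_left]
    intro g hgc hgd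
    obtain ⟨hga, hgcc, hg1⟩ := hT2 c hc g hgc
    obtain ⟨-, hgdd, -⟩ := hT2 d hd g hgd
    have hca := Finset.ne_of_mem_erase (Finset.mem_coe.1 hc)
    have hda := Finset.ne_of_mem_erase (Finset.mem_coe.1 hd)
    exact hg1 (eq_one_of_three hZ (Ne.symm hca) hcd (Ne.symm hda) hga hgcc hgdd)
  · rw [Finset.disjoint_left]
    intro g hg hg'
    obtain ⟨c, hc, hgc⟩ := Finset.mem_biUnion.1 hg'
    obtain ⟨hga, hgcc, hg1⟩ := hT2 c hc g hgc
    simp only [hS1, Finset.mem_filter, Finset.mem_univ, true_and] at hg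
    exact Finset.ne_of_mem_erase hc (Finset.card_le_one.1 (le_of_eq hg.2) c (by simp [hgcc]) a
      (by simp [hga]))
  · intro h
    rw [Finset.mem_union] at h
    rcases h with h | h
    · simp only [hS1, Finset.mem_filter, Finset.mem_univ, true_and, nfix_one] at h
      omega
    · obtain ⟨c, hc, hgc⟩ := Finset.mem_biUnion.1 h
      exact (hT2 c hc 1 hgc).2.2 rfl

end Cfsg.Agent.CharDeep.Zass
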