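import Cfsg.Agent.CharDeep.ZassOdd

/-!
Involutions of a Zassenhaus group whose two-point stabilisers have odd order.
-/

set_option autoImplicit false

namespace Cfsg.Agent.CharDeep.Zass

open MulAction

variable {G Ω : Type*} [Group G] [Fintype G] [MulAction G Ω] [Fintype Ω] [DecidableEq G]
  [DecidableEq Ω]

/-- The involutions of `G`. -/
def invs (G : Type*) [Group G] [Fintype G] [DecidableEq G] : Finset G :=
  Finset.univ.filter fun x => x ≠ 1 ∧ x * x = 1

theorem mem_invs {x : G} : x ∈ invs G ↔ x ≠ 1 ∧ x * x = 1 := by simp [invs]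

theorem mem_invs_iff_orderOf {x : G} : x ∈ invs G ↔ orderOf x = 2 := by
  rw [mem_invs, orderOf_eq_iff (n := 2) (by norm_num), pow_two]
  constructor
  · rintro ⟨h1, h2⟩
    exact ⟨h2, fun m hm hm0 => by obtain rfl : m = 1 := by omega
                                  simpa using h1⟩
  · rintro ⟨h2, h1⟩
    exact ⟨by simpa using h1 1 (by norm_num) (by norm_num), h2⟩

omit [Fintype G] [DecidableEq G] [Fintype Ω] [DecidableEq Ω] in
theorem smul_smul_of_sq {x : G} (hx : x * x = 1) (c : Ω) : x • (x • c) = c := by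
  rw [← mul_smul, hx, one_smul]

theorem conj_mem_invs {x : G} (g : G) (hx : x ∈ invs G) : g * x * g⁻¹ ∈ invs G := by
  rw [mem_invs] at hx ⊢
  exact ⟨fun h => hx.1 (conj_eq_one_iff.1 h), by
    rw [show g * x * g⁻¹ * (g * x * g⁻¹) = g * (x * x) * g⁻¹ by group, hx.2]; group⟩

/-- The involutions fixing `a`. -/
def invAt (G : Type*) {Ω : Type*} [Group G] [Fintype G] [DecidableEq G] [MulAction G Ω]
    [DecidableEq Ω] (a : Ω) : Finset G :=
  (invs G).filter fun x => x • a = a

/-- The involutions interchanging `a` and `b`. -/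
def invSwap (G : Type*) {Ω : Type*} [Group G] [Fintype G] [DecidableEq G] [MulAction G Ω]
    [DecidableEq Ω] (a b : Ω) : Finset G :=
  (invs G).filter fun x => x • a = b

omit [Fintype Ω] in
theorem mem_invSwap {x : G} {a b : Ω} :
    x ∈ invSwap G a b ↔ x ∈ invs G ∧ x • a = b ∧ x • b = a := by
  simp only [invSwap, Finset.mem_filter]
  exact ⟨fun h => ⟨h.1, h.2, by rw [← h.2, smul_smul_of_sq (mem_invs.1 h.1).2]⟩,
    fun h => ⟨h.1, h.2.1⟩⟩

omit [DecidableEq G] [Fintype G] in
theorem nfix_conj (g x : G) : nfix Ω (g * x * g⁻¹) = nfix Ω x := by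
  refine Finset.card_equiv (MulAction.toPerm g⁻¹) fun c => ?_
  simp only [Finset.mem_filter, Finset.mem_univ, true_and, MulAction.toPerm_apply, mul_smul]
  exact eq_inv_smul_iff.symm

omit [DecidableEq G] [Fintype G] in
theorem nfix_parity {x : G} (hx : x * x = 1) : Even (Fintype.card Ω - nfix Ω x) := by
  have h : ∑ c ∈ (Finset.univ.filter fun c : Ω => ¬ x • c = c), (1 : ZMod 2) = 0 := by
    refine Finset.sum_involution (fun c _ => x • c) (fun c _ => by decide) ?_ ?_ ?_
    · intro c hc _
      simpa using hc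
    · intro c hc
      simp only [Finset.mem_filter, Finset.mem_univ, true_and, smul_smul_of_sq hx] at hc ⊢
      exact Ne.symm hc
    · intro c _
      exact smul_smul_of_sq hx c
  rw [Finset.sum_const, nsmul_one, ZMod.natCast_eq_zero_iff_even] at h
  have h2 := Finset.card_filter_add_card_filter_not (s := (Finset.univ : Finset Ω))
    (fun c : Ω => x • c = c)
  rw [Finset.card_univ] at h2
  have : Fintype.card Ω - nfix Ω x
      = (Finset.univ.filter fun c : Ω => ¬ x • c = c).card := by
    rw [nfix]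
    omega
  rwa [this]

variable (hZ : Cfsg.IsZassenhausGroup G Ω) {a b : Ω} (hab : a ≠ b)
  (hodd : Odd (Nat.card ↥(two G a b)))

include hZ hab hodd

theorem inv_nfix_le_one {x : G} (hx : x ∈ invs G) : nfix Ω x ≤ 1 := by
  by_contra h
  obtain ⟨c, hc, d, hd, hcd⟩ := Finset.one_lt_card.1 (not_le.1 h)
  simp only [Finset.mem_filter, Finset.mem_univ, true_and] at hc hd
  have h1 : orderOf (⟨x, hc, hd⟩ : two G c d) = 2 := by
    rw [← Subgroup.orderOf_coe]
    exact mem_invs_iff_orderOf.1 hx
  have h2 := h1 ▸ orderOf_dvd_natCard (⟨x, hc, hd⟩ : two G c d)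
  rw [card_two_eq hZ hab hcd] at h2
  exact (Nat.not_even_iff_odd.2 hodd) (even_iff_two_dvd.2 h2)

theorem inv_nfix {x : G} (hx : x ∈ invs G) :
    nfix Ω x = if Odd (Fintype.card Ω) then 1 else 0 := by
  have h1 := inv_nfix_le_one hZ hab hodd hx
  have h2 := nfix_parity (Ω := Ω) (mem_invs.1 hx).2
  have h3 := three_le_card hZ hab
  rcases (by omega : nfix Ω x = 0 ∨ nfix Ω x = 1) with h | h
  · rw [h, Nat.sub_zero] at h2
    rw [if_neg (Nat.not_odd_iff_even.2 h2), h]
  · rw [h, Nat.even_sub (by omega)] at h2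
    have : Odd (Fintype.card Ω) :=
      Nat.not_even_iff_odd.1 fun he => Nat.not_even_one (h2.1 he)
    rw [if_pos this, h]

theorem not_fix_of_even (hn : Even (Fintype.card Ω)) {x : G} (hx : x ∈ invs G) (c : Ω) :
    x • c ≠ c := by
  have := inv_nfix hZ hab hodd hx
  rw [if_neg (Nat.not_odd_iff_even.2 hn)] at this
  exact nfix_eq_zero.1 this c

theorem fix_unique {x : G} (hx : x ∈ invs G) {c d : Ω} (hc : x • c = c) (hd : x • d = d) :
    c = d :=
  Finset.card_le_one.1 (inv_nfix_le_one hZ hab hodd hx) c (by simp [hc]) d (by simp [hd])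

omit hodd in
theorem card_invSwap_eq {c d : Ω} (hcd : c ≠ d) :
    (invSwap G c d).card = (invSwap G a b).card := by
  obtain ⟨g, rfl, rfl⟩ := exists_pair hZ hab hcd
  refine (Finset.card_bij' (fun x _ => g * x * g⁻¹) (fun x _ => g⁻¹ * x * g) ?_ ?_ ?_ ?_).symm
  · intro x hx
    rw [mem_invSwap] at hx ⊢
    exact ⟨conj_mem_invs g hx.1, by simp [mul_smul, hx.2.1], by simp [mul_smul, hx.2.2]⟩
  · intro x hx
    rw [mem_invSwap] at hx ⊢
    refine ⟨by simpa using conj_mem_invs g⁻¹ hx.1, ?_, ?_⟩
    · rw [mul_smul, mul_smul, hx.2.1, inv_smul_smul]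
    · rw [mul_smul, mul_smul, hx.2.2, inv_smul_smul]
  · intro x _; group
  · intro x _; group

/-- Every pair of points is moved onto each other by equally many involutions. -/
theorem card_invs_mul :
    (invs G).card * (if Odd (Fintype.card Ω) then Fintype.card Ω - 1 else Fintype.card Ω)
      = Fintype.card Ω * ((Fintype.card Ω - 1) * (invSwap G a b).card) := by
  have h1 : ∀ x ∈ invs G, (Finset.univ.filter fun c : Ω => ¬ x • c = c).card
      = if Odd (Fintype.card Ω) then Fintype.card Ω - 1 else Fintype.card Ω := by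
    intro x hx
    have h2 := Finset.card_filter_add_card_filter_not (s := (Finset.univ : Finset Ω))
      (fun c : Ω => x • c = c)
    rw [Finset.card_univ] at h2
    have h3 := inv_nfix hZ hab hodd hx
    rw [nfix] at h3
    split_ifs at h3 ⊢ <;> omega
  have h4 := Finset.sum_const_nat h1
  rw [← h4]
  simp only [Finset.card_filter]
  rw [Finset.sum_comm]
  have h5 : ∀ c : Ω, (∑ x ∈ invs G, if ¬x • c = c then 1 else 0)
      = (Fintype.card Ω - 1) * (invSwap G a b).card := by
    intro c
    rw [← Finset.card_filter]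
    have h6 : (invs G).filter (fun x => ¬ x • c = c)
        = (Finset.univ.erase c).biUnion fun d => invSwap G c d := by
      ext x
      simp only [Finset.mem_filter, Finset.mem_biUnion, Finset.mem_erase, Finset.mem_univ,
        and_true, invSwap]
      exact ⟨fun h => ⟨x • c, h.2, h.1, rfl⟩, fun ⟨d, hd, hx, hxd⟩ => ⟨hx, hxd ▸ hd⟩⟩
    rw [h6, Finset.card_biUnion, Finset.sum_congr rfl
      (fun d hd => card_invSwap_eq hZ hab (Ne.symm (Finset.ne_of_mem_erase hd))),
      Finset.sum_const, smul_eq_mul, Finset.card_erase_of_mem (Finset.mem_univ c), Finset.card_univ]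
    intro d _ d' _ hdd'
    rw [Function.onFun, Finset.disjoint_left]
    intro x hx hx'
    exact hdd' ((mem_invSwap.1 hx).2.1.symm.trans (mem_invSwap.1 hx').2.1)
  rw [Finset.sum_congr rfl fun c _ => h5 c, Finset.sum_const, Finset.card_univ, smul_eq_mul]

omit hodd in
theorem card_invSwap_le : (invSwap G a b).card ≤ Nat.card ↥(two G a b) := by
  obtain ⟨w, hw⟩ := exists_swap hZ hab
  classical
  rw [Nat.card_eq_fintype_card, Fintype.card_subtype]
  refine Finset.card_le_card_of_injOn (fun x => x * w) (fun x hx => ?_) fun x _ y _ h =>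
    mul_right_cancel h
  rw [Finset.mem_coe, mem_invSwap] at hx
  simpa using swap_mul_mem hx.2 hw

theorem invSwap_nonempty : (invSwap G a b).Nonempty := by
  obtain ⟨w, -, hwa, hwb, hw⟩ := exists_involution_swap hZ hab hodd
  exact ⟨w, mem_invSwap.2 ⟨mem_invs_iff_orderOf.2 hw, hwa, hwb⟩⟩

variable (hn : Odd (Fintype.card Ω))

include hn

theorem card_invAt (c : Ω) : (invAt G c).card = (invSwap G a b).card := by
  have h1 := card_invs_mul hZ hab hodd
  rw [if_pos hn] at h1
  have h3 := three_le_card hZ hab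
  have hT : (invs G).card = Fintype.card Ω * (invSwap G a b).card := by
    refine Nat.eq_of_mul_eq_mul_right (show 0 < Fintype.card Ω - 1 by omega) ?_
    rw [h1]; ring
  have h2 : ∀ d : Ω, (invAt G d).card = (invAt G c).card := by
    intro d
    have := pretransitive hZ
    obtain ⟨g, rfl⟩ := MulAction.exists_smul_eq G c d
    refine (Finset.card_bij' (fun x _ => g * x * g⁻¹) (fun x _ => g⁻¹ * x * g) ?_ ?_ ?_ ?_).symm
    · intro x hx
      simp only [invAt, Finset.mem_filter] at hx ⊢
      exact ⟨conj_mem_invs g hx.1, by simp [mul_smul, hx.2]⟩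
    · intro x hx
      simp only [invAt, Finset.mem_filter] at hx ⊢
      exact ⟨by simpa using conj_mem_invs g⁻¹ hx.1, by rw [mul_smul, mul_smul, hx.2, inv_smul_smul]⟩
    · intro x _; group
    · intro x _; group
  have h4 : (invs G).card = ∑ d : Ω, (invAt G d).card := by
    simp only [invAt]
    rw [← sum_nfix (Ω := Ω) (invs G), Finset.sum_congr rfl
      (fun x hx => (inv_nfix hZ hab hodd hx).trans (if_pos hn))]
    simp
  rw [Finset.sum_congr rfl fun d _ => h2 d, Finset.sum_const, Finset.card_univ, smul_eq_mul,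
    hT] at h4
  exact (Nat.eq_of_mul_eq_mul_left (by omega) h4).symm

theorem invAt_nonempty (c : Ω) : (invAt G c).Nonempty := by
  rw [← Finset.card_pos, card_invAt hZ hab hodd hn]
  exact (invSwap_nonempty hZ hab hodd).card_pos

/-- The two-point stabiliser acts freely on the involutions fixing one of the two points. -/
theorem conj_injOn {z : G} (hz : z ∈ invAt G a) {x y : G} (hx : x ∈ two G a b)
    (hy : y ∈ two G a b) (h : x * z * x⁻¹ = y * z * y⁻¹) : x = y := by
  simp only [invAt, Finset.mem_filter] at hz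
  by_contra hne
  have hv : x⁻¹ * y ∈ two G a b := (two G a b).mul_mem ((two G a b).inv_mem hx) hy
  have hv1 : x⁻¹ * y ≠ 1 := fun h' => hne (inv_mul_eq_one.1 h')
  have hc : x⁻¹ * y * z = z * (x⁻¹ * y) := by
    calc x⁻¹ * y * z = x⁻¹ * (y * z * y⁻¹) * y := by group
      _ = x⁻¹ * (x * z * x⁻¹) * y := by rw [h]
      _ = z * (x⁻¹ * y) := by group
  have hzb : (x⁻¹ * y) • (z • b) = z • b := by
    rw [← mul_smul, hc, mul_smul, (mem_two.1 hv).2]
  rcases fixed_of_mem_two hZ hab hv hv1 hzb with h1 | h1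
  · exact hab (MulAction.injective z (h1.trans hz.2.symm)).symm
  · exact hab (fix_unique hZ hab hodd hz.1 hz.2 h1)

theorem card_invSwap_of_odd : (invSwap G a b).card = Nat.card ↥(two G a b) := by
  refine le_antisymm (card_invSwap_le hZ hab) ?_
  obtain ⟨z, hz⟩ := invAt_nonempty hZ hab hodd hn a
  rw [← card_invAt hZ hab hodd hn a]
  classical
  rw [Nat.card_eq_fintype_card, Fintype.card_subtype]
  refine Finset.card_le_card_of_injOn (fun x => x * z * x⁻¹) (fun x hx => ?_) ?_
  · simp only [invAt, Finset.mem_filter, Finset.coe_filter, Finset.mem_univ, true_and,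
      Set.mem_setOf_eq] at hz hx ⊢
    refine ⟨conj_mem_invs x hz.1, ?_⟩
    have hxa : x⁻¹ • a = a := inv_smul_eq_iff.2 hx.1.symm
    rw [mul_smul, mul_smul, hxa, hz.2]
    exact hx.1
  · intro x hx y hy h
    simp only [Finset.coe_filter, Finset.mem_univ, true_and, Set.mem_setOf_eq] at hx hy
    exact conj_injOn hZ hab hodd hn hz hx hy h

/-- For odd degree the involutions fixing a point form one orbit of the two-point stabiliser. -/
theorem invAt_conj {z y : G} (hz : z ∈ invAt G a) (hy : y ∈ invAt G a) :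
    ∃ x ∈ two G a b, x * z * x⁻¹ = y := by
  classical
  set S := (Finset.univ.filter fun g : G => g ∈ two G a b).image fun x => x * z * x⁻¹
  have hsub : S ⊆ invAt G a := by
    intro t ht
    simp only [S, Finset.mem_image, Finset.mem_filter, Finset.mem_univ, true_and] at ht
    obtain ⟨x, hx, rfl⟩ := ht
    simp only [invAt, Finset.mem_filter] at hz ⊢
    have hxa : x⁻¹ • a = a := inv_smul_eq_iff.2 hx.1.symm
    refine ⟨conj_mem_invs x hz.1, ?_⟩
    rw [mul_smul, mul_smul, hxa, hz.2]
    exact hx.1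
  have heq := Finset.eq_of_subset_of_card_le hsub (by
    rw [card_invAt hZ hab hodd hn, card_invSwap_of_odd hZ hab hodd hn, Finset.card_image_of_injOn,
      ← Fintype.card_subtype, Nat.card_eq_fintype_card]
    intro x hx y hy h
    simp only [Finset.coe_filter, Finset.mem_univ, true_and, Set.mem_setOf_eq] at hx hy
    exact conj_injOn hZ hab hodd hn hz hx hy h)
  rw [← heq] at hy
  simpa [S] using hy

theorem card_invs_of_odd : (invs G).card = Nat.card ↥(two G a b) * Fintype.card Ω := by
  have h1 := card_invs_mul hZ hab hodd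
  rw [if_pos hn, card_invSwap_of_odd hZ hab hodd hn] at h1
  have h3 := three_le_card hZ hab
  refine Nat.eq_of_mul_eq_mul_right (show 0 < Fintype.card Ω - 1 by omega) ?_
  rw [h1]; ring

omit hn in
/-- For even degree everything follows once elements interchanging two points are involutions. -/
theorem card_invs_of_even (hn : Even (Fintype.card Ω))
    (hsq : ∀ g : G, g • a = b → g • b = a → g * g = 1) :
    (invs G).card = Nat.card ↥(two G a b) * (Fintype.card Ω - 1) := by
  have h1 := card_invs_mul hZ hab hodd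
  rw [if_neg (Nat.not_odd_iff_even.2 hn)] at h1
  obtain ⟨w, hw⟩ := exists_swap hZ hab
  have h2 : (invSwap G a b).card = Nat.card ↥(two G a b) := by
    refine le_antisymm (card_invSwap_le hZ hab) ?_
    classical
    rw [Nat.card_eq_fintype_card, Fintype.card_subtype]
    refine Finset.card_le_card_of_injOn (fun x => x * w) (fun x hx => ?_) fun x _ y _ h =>
      mul_right_cancel h
    simp only [Finset.coe_filter, Finset.mem_univ, true_and, Set.mem_setOf_eq] at hx
    have ha : (x * w) • a = b := by rw [mul_smul, hw.1]; exact hx.2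
    have hb : (x * w) • b = a := by rw [mul_smul, hw.2]; exact hx.1
    rw [Finset.mem_coe, mem_invSwap, mem_invs]
    refine ⟨⟨fun h => hab ?_, hsq _ ha hb⟩, ha, hb⟩
    have h' : x * w = 1 := h
    rw [h', one_smul] at ha
    exact ha
  rw [h2] at h1
  have h3 := three_le_card hZ hab
  refine Nat.eq_of_mul_eq_mul_right (show 0 < Fintype.card Ω by omega) ?_
  rw [h1]; ring

end Cfsg.Agent.CharDeep.Zass

namespace Cfsg.Agent.CharDeep.Zass

open MulAction

variable {G Ω : Type*} [Group G] [Fintype G] [MulAction G Ω] [Fintype Ω] [DecidableEq G]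
  [DecidableEq Ω] (hZ : Cfsg.IsZassenhausGroup G Ω) {a b : Ω} (hab : a ≠ b)
  (hodd : Odd (Nat.card ↥(two G a b))) {H : Subgroup G} (hH : IsKernel a H)

include hZ hab hodd hH

theorem invAt_subset_kernel {x : G} (hx : x ∈ invAt G a) : x ∈ H := by
  simp only [invAt, Finset.mem_filter] at hx
  exact (mem_kernel_iff hZ hH).2
    (Or.inr ⟨hx.2, fun c hc => fix_unique hZ hab hodd hx.1 hc hx.2⟩)

/-- The involutions fixing a point commute. -/
theorem invAt_commute (hn : Odd (Fintype.card Ω)) {x y : G} (hx : x ∈ invAt G a)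
    (hy : y ∈ invAt G a) : x * y = y * x := by
  have hle := hH.le
  have : Fact (Nat.Prime 2) := ⟨Nat.prime_two⟩
  set H' := H.subgroupOf (stabilizer G a) with hH'
  have hn' : H'.Normal := ⟨fun u hu g => kernel_normal hZ hH g.2 hu⟩
  obtain ⟨S⟩ : Nonempty (Sylow 2 H') := inferInstance
  set N := Subgroup.normalizer ((S : Subgroup H').map H'.subtype : Set (stabilizer G a)) with hN
  have htop : N ⊔ H' = ⊤ := Sylow.normalizer_sup_eq_top S
  -- a central involution of `S`
  have hxH' : (⟨⟨x, hle (invAt_subset_kernel hZ hab hodd hH hx)⟩,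
      invAt_subset_kernel hZ hab hodd hH hx⟩ : H') ≠ 1 := by
    intro h
    simp only [invAt, Finset.mem_filter, mem_invs] at hx
    exact hx.1.1 (congrArg (fun z : H' => ((z : stabilizer G a) : G)) h)
  have hdvd : 2 ∣ Nat.card H' := by
    have h1 : orderOf x = 2 := mem_invs_iff_orderOf.1 (Finset.mem_filter.1 hx).1
    have h2 := orderOf_dvd_natCard (⟨⟨x, hle (invAt_subset_kernel hZ hab hodd hH hx)⟩,
      invAt_subset_kernel hZ hab hodd hH hx⟩ : H')
    rwa [← Subgroup.orderOf_coe, ← Subgroup.orderOf_coe, h1] at h2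
  have hS1 : Nontrivial (S : Subgroup H') := Finite.one_lt_card_iff_nontrivial.1
    (Nat.le_of_dvd Nat.card_pos (S.dvd_card_of_dvd_card hdvd))
  have := S.2.center_nontrivial
  have hZdvd : 2 ∣ Nat.card (Subgroup.center (S : Subgroup H')) :=
    ((S.2.to_subgroup _).card_eq_or_dvd).resolve_left
      (Finite.one_lt_card (α := Subgroup.center (S : Subgroup H'))).ne'
  obtain ⟨z, hz⟩ := exists_prime_orderOf_dvd_card' 2 hZdvd
  let zH : H' := ((z : (S : Subgroup H')) : H')
  set zA : stabilizer G a := (zH : stabilizer G a) with hzA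
  have hzinv : (zA : G) ∈ invAt G a := by
    simp only [invAt, Finset.mem_filter]
    refine ⟨mem_invs_iff_orderOf.2 ?_, zA.2⟩
    rw [hzA, Subgroup.orderOf_coe, Subgroup.orderOf_coe]
    simp only [zH, Subgroup.orderOf_coe]
    exact hz
  -- conjugates of `z` under `N` are all involutions fixing `a`
  have hconj : ∀ t ∈ invAt G a, ∃ m ∈ N, (m : G) * zA * (m : G)⁻¹ = t := by
    intro t ht
    obtain ⟨v, hv, hvt⟩ := invAt_conj hZ hab hodd hn hzinv ht
    have hmem : (⟨v, hv.1⟩ : stabilizer G a) ∈ N ⊔ H' := by rw [htop]; exact Subgroup.mem_top _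
    obtain ⟨m, hm, u, hu, hmu⟩ := Subgroup.mem_sup_of_normal_right.1 hmem
    obtain ⟨v', hv', hvt'⟩ := invAt_conj hZ hab hodd hn hzinv (show (m : G) * zA * (m : G)⁻¹ ∈ invAt G a by
      simp only [invAt, Finset.mem_filter] at hzinv ⊢
      refine ⟨conj_mem_invs _ hzinv.1, ?_⟩
      have hma : (m : G)⁻¹ • a = a := inv_smul_eq_iff.2 (mem_stabilizer_iff.1 m.2).symm
      rw [mul_smul, mul_smul, hma, hzinv.2]
      exact m.2)
    refine ⟨m, hm, ?_⟩
    have h1 : v = (m : G) * (u : G) := (congrArg Subtype.val hmu).symm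
    -- compare cosets modulo `H`
    have h2 : (v'⁻¹ * (m : G)) * (zA : G) * (v'⁻¹ * (m : G))⁻¹ = zA := by
      calc (v'⁻¹ * (m : G)) * (zA : G) * (v'⁻¹ * (m : G))⁻¹
          = v'⁻¹ * ((m : G) * zA * (m : G)⁻¹) * v' := by group
        _ = zA := by rw [← hvt']; group
    have h3 : v'⁻¹ * (m : G) ∈ H := by
      set c := v'⁻¹ * (m : G) with hc
      have hca : c • a = a := by
        rw [hc, mul_smul, mem_stabilizer_iff.1 m.2, inv_smul_eq_iff]
        exact hv'.1.symm
      rw [mem_kernel_iff hZ hH]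
      by_cases hc1 : c = 1
      · exact Or.inl hc1
      refine Or.inr ⟨hca, fun d hd => ?_⟩
      by_contra hda
      have hd' : c • ((zA : G) • d) = (zA : G) • d := by
        rw [← mul_smul, mul_inv_eq_iff_eq_mul.1 h2, mul_smul, hd]
      simp only [invAt, Finset.mem_filter] at hzinv
      rcases fixed_of_mem_two hZ (Ne.symm hda) ⟨hca, hd⟩ hc1 hd' with h | h
      · exact hda (MulAction.injective (zA : G) (h.trans hzinv.2.symm))
      · exact hda (fix_unique hZ hab hodd hzinv.1 h hzinv.2)
    have h4 : v⁻¹ * v' ∈ two G a b := (two G a b).mul_mem ((two G a b).inv_mem hv) hv'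
    have h5 : v⁻¹ * v' ∈ H := by
      have : v⁻¹ * v' = (u : G)⁻¹ * ((m : G)⁻¹ * v') := by rw [h1]; group
      rw [this]
      refine H.mul_mem (H.inv_mem hu) ?_
      simpa using H.inv_mem h3
    have h6 := kernel_inf_two hZ hab hH h5 h4.2
    rw [← hvt', ← inv_mul_eq_one.1 h6, hvt]
  have hcentral : ∀ t ∈ invAt G a, ∃ s : H', s ∈ (S : Subgroup H') ∧
      ((s : stabilizer G a) : G) = t ∧ ∀ r ∈ (S : Subgroup H'), r * s = s * r := by
    intro t ht
    obtain ⟨m, hm, hmt⟩ := hconj t ht
    have hzS : zA ∈ (S : Subgroup H').map H'.subtype := ⟨zH, (z : (S : Subgroup H')).2, rfl⟩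
    obtain ⟨s, hs, hst⟩ := (Subgroup.mem_normalizer_iff.1 hm zA).1 hzS
    have hst' : (s : stabilizer G a) = m * zA * m⁻¹ := hst
    refine ⟨s, hs, ?_, fun r hr => ?_⟩
    · rw [hst']; exact hmt
    have hr' : (r : stabilizer G a) ∈ (S : Subgroup H').map H'.subtype := ⟨r, hr, rfl⟩
    obtain ⟨r₀, hr₀, hr₀'⟩ := (Subgroup.mem_normalizer_iff.1 (N.inv_mem hm) r).1 hr'
    have hr₀'' : (r₀ : stabilizer G a) = m⁻¹ * (r : stabilizer G a) * m := by
      rw [← inv_inv m]; simpa using hr₀'
    have hc0 := congrArg Subtype.val (Subgroup.mem_center_iff.1 z.2 ⟨r₀, hr₀⟩)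
    have hc1 : (r₀ : stabilizer G a) * zA = zA * r₀ := congrArg Subtype.val hc0
    apply Subtype.ext
    rw [Subgroup.coe_mul, Subgroup.coe_mul, hst',
      show (r : stabilizer G a) = m * r₀ * m⁻¹ by rw [hr₀'']; group,
      show m * (r₀ : stabilizer G a) * m⁻¹ * (m * zA * m⁻¹) = m * ((r₀ : stabilizer G a) * zA) * m⁻¹ by group,
      hc1]
    group
  obtain ⟨s, hs, hsx, -⟩ := hcentral x hx
  obtain ⟨t, -, hty, htc⟩ := hcentral y hy
  rw [← hsx, ← hty]
  exact congrArg (fun w : H' => ((w : stabilizer G a) : G)) (htc s hs)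

theorem kernel_product_involution {u x y : G} (hu : u ∈ H) (hu1 : u ≠ 1) (hx : x ∈ invs G)
    (hy : y ∈ invs G) (hxy : x * y = u) : orderOf u = 2 := by
  have hx2 := (mem_invs.1 hx).2
  have hy2 := (mem_invs.1 hy).2
  have hxu : x * u = u⁻¹ * x := by
    rw [← hxy, mul_inv_rev, inv_eq_of_mul_eq_one_right hx2, inv_eq_of_mul_eq_one_right hy2,
      mul_assoc y x x, hx2, mul_one, ← mul_assoc, hx2, one_mul]
  have hua : u⁻¹ • a = a := inv_smul_eq_iff.2 (mem_stabilizer_iff.1 (hH.le hu)).symm
  have hxa : x • a = a := by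
    refine hH.fix u hu hu1 _ ?_
    calc u • (x • a) = u • (x • (u • a)) := by rw [mem_stabilizer_iff.1 (hH.le hu)]
      _ = (u * (x * u)) • a := by rw [mul_smul, mul_smul]
      _ = x • a := by rw [hxu, mul_inv_cancel_left]
  have hya : y • a = a := by
    rw [show y = x * u by rw [← hxy, ← mul_assoc, hx2, one_mul], hxu, mul_smul, hxa, hua]
  have hn : Odd (Fintype.card Ω) := by
    by_contra hn
    exact not_fix_of_even hZ hab hodd (Nat.not_odd_iff_even.1 hn) hx a hxa
  have hc := invAt_commute hZ hab hodd hH hn (Finset.mem_filter.2 ⟨hx, hxa⟩)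
    (Finset.mem_filter.2 ⟨hy, hya⟩)
  refine orderOf_eq_prime ?_ hu1
  rw [← hxy, pow_two, mul_assoc, ← mul_assoc y x y, ← hc, mul_assoc x y y, hy2, mul_one, hx2]

end Cfsg.Agent.CharDeep.Zass
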