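import Cfsg.Agent.CharDeep.ZassBasic

/-!
Fixed-point counting in a finite Zassenhaus group and the Frobenius kernel of a point stabiliser.
-/

set_option autoImplicit false

namespace Cfsg.Agent.CharDeep.Zass

open MulAction

variable {G Ω : Type*} [Group G] [Fintype G] [MulAction G Ω] [Fintype Ω]
  [DecidableEq G] [DecidableEq Ω]

/-- Number of fixed points. -/
def nfix (Ω : Type*) {G : Type*} [Group G] [MulAction G Ω] [Fintype Ω] [DecidableEq Ω] (g : G) :
    ℕ :=
  (Finset.univ.filter fun c : Ω => g • c = c).card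

theorem nfix_one : nfix Ω (1 : G) = Fintype.card Ω := by
  rw [nfix, Finset.filter_true_of_mem (fun c _ => one_smul G c), Finset.card_univ]

omit [DecidableEq G] [Fintype G] in
theorem nfix_eq_zero {g : G} : nfix Ω g = 0 ↔ ∀ c : Ω, g • c ≠ c := by
  simp [nfix, Finset.filter_eq_empty_iff]

theorem card_fix_point (a : Ω) :
    (Finset.univ.filter fun g : G => g • a = a).card = Nat.card ↥(stabilizer G a) := by
  rw [← Fintype.card_subtype, Nat.card_eq_fintype_card]
  exact Fintype.card_congr (Equiv.refl _)

theorem sum_nfix (s : Finset G) :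
    ∑ g ∈ s, nfix Ω g = ∑ c : Ω, (s.filter fun g => g • c = c).card := by
  simp only [nfix, Finset.card_filter]
  exact Finset.sum_comm

variable (hZ : Cfsg.IsZassenhausGroup G Ω)

include hZ

omit [DecidableEq G] [Fintype G] in
theorem nfix_le_two {g : G} (hg : g ≠ 1) : nfix Ω g ≤ 2 := by
  by_contra h
  obtain ⟨x, y, z, hx, hy, hz, hxy, hxz, hyz⟩ := Finset.two_lt_card_iff.1 (not_le.1 h)
  simp only [Finset.mem_filter, Finset.mem_univ, true_and] at hx hy hz
  exact hg (eq_one_of_three hZ hxy hyz hxz hx hy hz)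

omit [DecidableEq G] [Fintype G] [Fintype Ω] [DecidableEq Ω] in
theorem fixed_other_of_two {g : G} {a b c d : Ω} (hab : a ≠ b) (hg : g ≠ 1) (ha : g • a = a)
    (hb : g • b = b) (hc : g • c = c) (hd : g • d = d) (hcd : c ≠ d) :
    (c = a ∧ d = b) ∨ (c = b ∧ d = a) := by
  rcases fixed_of_mem_two hZ hab ⟨ha, hb⟩ hg hc with h1 | h1 <;>
    rcases fixed_of_mem_two hZ hab ⟨ha, hb⟩ hg hd with h2 | h2
  · exact absurd (h1.trans h2.symm) hcd
  · exact Or.inl ⟨h1, h2⟩
  · exact Or.inr ⟨h1, h2⟩
  · exact absurd (h1.trans h2.symm) hcd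

/-- Elements fixing `a` and exactly one further point. -/
theorem card_fix_two_at {a b : Ω} (hab : a ≠ b) :
    (Finset.univ.filter fun g : G => g • a = a ∧ nfix Ω g = 2).card
      = (Fintype.card Ω - 1) * (Nat.card ↥(two G a b) - 1) := by
  have key : (Finset.univ.filter fun g : G => g • a = a ∧ nfix Ω g = 2)
      = (Finset.univ.erase a).biUnion fun c =>
          (Finset.univ.filter fun g : G => g • a = a ∧ g • c = c).erase 1 := by
    ext g
    simp only [Finset.mem_filter, Finset.mem_univ, true_and, Finset.mem_biUnion,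
      Finset.mem_erase, and_true]
    constructor
    · rintro ⟨hga, h2⟩
      obtain ⟨x, y, hxy, he⟩ := Finset.card_eq_two.1 h2
      have hm : ∀ c : Ω, g • c = c ↔ c = x ∨ c = y := by
        intro c
        simpa using Finset.ext_iff.1 he c
      have h1 : g ≠ 1 := by
        intro h
        rw [h, nfix_one] at h2
        have := three_le_card hZ hab
        omega
      rcases (hm a).1 hga with h | h
      · exact ⟨y, (fun h' => hxy (h ▸ h'.symm)), h1, hga, (hm y).2 (Or.inr rfl)⟩
      · exact ⟨x, (fun h' => hxy (h ▸ h')), h1, hga, (hm x).2 (Or.inl rfl)⟩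
    · rintro ⟨c, hca, h1, hga, hgc⟩
      refine ⟨hga, le_antisymm (nfix_le_two hZ h1) ?_⟩
      exact Finset.one_lt_card.2 ⟨a, by simpa using hga, c, by simpa using hgc, Ne.symm hca⟩
  rw [key, Finset.card_biUnion]
  · have hsum : ∀ c ∈ (Finset.univ.erase a : Finset Ω),
        ((Finset.univ.filter fun g : G => g • a = a ∧ g • c = c).erase 1).card
          = Nat.card ↥(two G a b) - 1 := by
      intro c hc
      rw [Finset.card_erase_of_mem (by simp), ← Fintype.card_subtype,
        ← card_two_eq hZ hab (Ne.symm (Finset.ne_of_mem_erase hc)), ← Nat.card_eq_fintype_card]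
      rfl
    rw [Finset.sum_congr rfl hsum, Finset.sum_const, smul_eq_mul,
      Finset.card_erase_of_mem (Finset.mem_univ a), Finset.card_univ]
  · intro c hc d hd hcd
    rw [Function.onFun, Finset.disjoint_left]
    intro g hg hg'
    simp only [Finset.mem_erase, Finset.mem_filter, Finset.mem_univ, true_and] at hg hg'
    simp only [Finset.coe_erase, Set.mem_diff, Set.mem_singleton_iff, Finset.coe_univ,
      Set.mem_univ, true_and] at hc hd
    exact hg.1 (eq_one_of_three hZ (Ne.symm hc) hcd (Ne.symm hd) hg.2.1 hg.2.2 hg'.2.2)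

omit [DecidableEq G] [Fintype G] in
theorem nfix_cases {g : G} (hg : g ≠ 1) : nfix Ω g = 0 ∨ nfix Ω g = 1 ∨ nfix Ω g = 2 := by
  have := nfix_le_two hZ hg
  omega

/-- Elements fixing only `a`. -/
theorem card_fix_one_at {a b : Ω} (hab : a ≠ b) :
    (Finset.univ.filter fun g : G => g • a = a ∧ nfix Ω g = 1).card = Fintype.card Ω - 2 := by
  have h3 := three_le_card hZ hab
  have hA : (Finset.univ.filter fun g : G => g • a = a)
      = insert 1 ((Finset.univ.filter fun g : G => g • a = a ∧ nfix Ω g = 1) ∪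
        (Finset.univ.filter fun g : G => g • a = a ∧ nfix Ω g = 2)) := by
    ext g
    simp only [Finset.mem_filter, Finset.mem_univ, true_and, Finset.mem_insert, Finset.mem_union]
    constructor
    · intro hga
      by_cases h1 : g = 1
      · exact Or.inl h1
      rcases nfix_cases hZ h1 with h | h | h
      · exact absurd hga (nfix_eq_zero.1 h a)
      · exact Or.inr (Or.inl ⟨hga, h⟩)
      · exact Or.inr (Or.inr ⟨hga, h⟩)
    · rintro (rfl | h | h)
      · exact one_smul G a
      · exact h.1
      · exact h.1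
  have hc := congrArg Finset.card hA
  rw [card_fix_point, Finset.card_insert_of_notMem, Finset.card_union_of_disjoint,
    card_fix_two_at hZ hab, card_stabilizer hZ hab] at hc
  · have h1 := two_card_gt_one hZ hab
    obtain ⟨e, he⟩ := Nat.exists_eq_add_of_le h1
    rw [he, show 1 + 1 + e - 1 = e + 1 by omega,
      show 1 + 1 + e = (e + 1) + 1 by omega, Nat.mul_succ] at hc
    omega
  · rw [Finset.disjoint_left]
    intro g hg hg'
    simp only [Finset.mem_filter, Finset.mem_univ, true_and] at hg hg'
    omega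
  · simp only [Finset.mem_union, Finset.mem_filter, Finset.mem_univ, true_and, nfix_one]
    omega

/-- The number of elements without fixed points. -/
theorem card_fix_zero {a b : Ω} (hab : a ≠ b) :
    (Finset.univ.filter fun g : G => nfix Ω g = 0).card * 2
      = (Fintype.card Ω - 1) * (Fintype.card Ω * (Nat.card ↥(two G a b) - 1) + 2) := by
  have h3 := three_le_card hZ hab
  have hsum : ∀ k : ℕ, ∀ f : Ω → ℕ,
      (∀ c, (Finset.univ.filter fun g : G => g • c = c ∧ nfix Ω g = k).card = f c) →
      (Finset.univ.filter fun g : G => nfix Ω g = k).card * k = ∑ c : Ω, f c := by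
    intro k f hf
    rw [← Finset.sum_congr rfl fun c _ => hf c]
    have h1 := sum_nfix (Ω := Ω) (Finset.univ.filter fun g : G => nfix Ω g = k)
    rw [Finset.sum_congr rfl fun g hg => (Finset.mem_filter.1 hg).2, Finset.sum_const,
      smul_eq_mul] at h1
    rw [h1]
    refine Finset.sum_congr rfl fun c _ => congrArg Finset.card ?_
    rw [Finset.filter_filter]
    simp only [and_comm]
  have e1 := hsum 1 (fun _ => Fintype.card Ω - 2) fun c => by
    obtain ⟨d, hd⟩ := Fintype.exists_ne_of_one_lt_card (by omega) c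
    exact card_fix_one_at hZ (Ne.symm hd)
  have e2 := hsum 2 (fun _ => (Fintype.card Ω - 1) * (Nat.card ↥(two G a b) - 1)) fun c => by
    obtain ⟨d, hd⟩ := Fintype.exists_ne_of_one_lt_card (by omega) c
    rw [card_fix_two_at hZ (Ne.symm hd), card_two_eq hZ hab (Ne.symm hd)]
  have hU : (Finset.univ : Finset G) = insert 1 (((Finset.univ.filter fun g : G => nfix Ω g = 0) ∪
      (Finset.univ.filter fun g : G => nfix Ω g = 1)) ∪
        (Finset.univ.filter fun g : G => nfix Ω g = 2)) := by
    ext g
    simp only [Finset.mem_univ, Finset.mem_insert, Finset.mem_union, Finset.mem_filter, true_and,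
      true_iff]
    by_cases h1 : g = 1
    · exact Or.inl h1
    · rcases nfix_cases hZ h1 with h | h | h
      · exact Or.inr (Or.inl (Or.inl h))
      · exact Or.inr (Or.inl (Or.inr h))
      · exact Or.inr (Or.inr h)
  have hc := congrArg Finset.card hU
  rw [Finset.card_univ, ← Nat.card_eq_fintype_card (α := G), card_group hZ hab,
    Finset.card_insert_of_notMem, Finset.card_union_of_disjoint,
    Finset.card_union_of_disjoint] at hc
  · simp only [Finset.sum_const, Finset.card_univ, smul_eq_mul, mul_one] at e1 e2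
    have h1 := two_card_gt_one hZ hab
    obtain ⟨n, hn⟩ := Nat.exists_eq_add_of_le (show 2 ≤ Fintype.card Ω by omega)
    obtain ⟨e, he⟩ := Nat.exists_eq_add_of_le (show 1 ≤ Nat.card ↥(two G a b) by omega)
    rw [hn, he] at hc e2 ⊢
    rw [hn] at e1
    rw [show 2 + n - 1 = n + 1 by omega] at hc e2 ⊢
    rw [show 1 + e - 1 = e by omega] at e2 ⊢
    rw [show 2 + n - 2 = n by omega] at e1
    nlinarith
  · simp only [Finset.disjoint_left, Finset.mem_filter, Finset.mem_univ, true_and]
    omega
  · simp only [Finset.disjoint_left, Finset.mem_union, Finset.mem_filter, Finset.mem_univ,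
      true_and]
    omega
  · simp only [Finset.mem_union, Finset.mem_filter, Finset.mem_univ, true_and, nfix_one]
    omega

omit hZ in
/-- The data describing the Frobenius kernel of a point stabiliser. -/
structure IsKernel (a : Ω) (H : Subgroup G) : Prop where
  le : H ≤ stabilizer G a
  card : Nat.card H + 1 = Fintype.card Ω
  fix : ∀ u ∈ H, u ≠ 1 → ∀ c : Ω, u • c = c → c = a

variable {a : Ω} {H : Subgroup G} (hH : IsKernel a H)

include hH

theorem mem_kernel_iff {u : G} : u ∈ H ↔ u = 1 ∨ (u • a = a ∧ ∀ c : Ω, u • c = c → c = a) := by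
  constructor
  · intro hu
    by_cases h : u = 1
    · exact Or.inl h
    · exact Or.inr ⟨mem_stabilizer_iff.1 (hH.le hu), hH.fix u hu h⟩
  classical
  rintro (rfl | ⟨h1, h2⟩)
  · exact one_mem H
  obtain ⟨b, hb⟩ : ∃ b, a ≠ b := by
    by_contra h
    push Not at h
    obtain ⟨g, _, c, d, hcd, -⟩ := hZ.2.2.2.1
    exact hcd ((h c).symm.trans (h d))
  have h3 := three_le_card hZ hb
  have hnfix : ∀ g : G, g • a = a → (∀ c : Ω, g • c = c → c = a) → nfix Ω g = 1 := by
    intro g hga hall
    rw [nfix, Finset.card_eq_one]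
    refine ⟨a, Finset.eq_singleton_iff_unique_mem.2 ⟨by simp [hga], fun c hc => hall c ?_⟩⟩
    simpa using hc
  set S := (Finset.univ.filter fun g : G => g • a = a ∧ nfix Ω g = 1)
  have hsub : (Finset.univ.filter fun g : G => g ∈ H).erase 1 ⊆ S := by
    intro g hg
    simp only [Finset.mem_erase, Finset.mem_filter, Finset.mem_univ, true_and] at hg
    have hga := mem_stabilizer_iff.1 (hH.le hg.2)
    simp only [S, Finset.mem_filter, Finset.mem_univ, true_and]
    exact ⟨hga, hnfix g hga (hH.fix g hg.2 hg.1)⟩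
  have hcard : ((Finset.univ.filter fun g : G => g ∈ H).erase 1).card = Fintype.card Ω - 2 := by
    rw [Finset.card_erase_of_mem (by simp), ← Fintype.card_subtype, ← Nat.card_eq_fintype_card]
    have := hH.card
    omega
  have heq := Finset.eq_of_subset_of_card_le hsub
    (by rw [hcard, card_fix_one_at hZ hb])
  have hu : u ∈ S := by simp [S, h1, hnfix u h1 h2]
  rw [← heq] at hu
  simp only [Finset.mem_erase, Finset.mem_filter, Finset.mem_univ, true_and] at hu
  exact hu.2

theorem kernel_normal {g : G} (hg : g • a = a) {u : G} (hu : u ∈ H) : g * u * g⁻¹ ∈ H := by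
  rw [mem_kernel_iff hZ hH] at hu ⊢
  rcases hu with rfl | ⟨h1, h2⟩
  · simp
  · have hg' : g⁻¹ • a = a := inv_smul_eq_iff.2 hg.symm
    refine Or.inr ⟨by rw [mul_smul, mul_smul, hg', h1, hg], fun c hc => ?_⟩
    have : u • (g⁻¹ • c) = g⁻¹ • c := by
      rw [mul_smul, mul_smul] at hc
      exact eq_inv_smul_iff.2 hc
    have h3 := h2 _ this
    rw [inv_smul_eq_iff] at h3
    rw [h3, hg]

omit [DecidableEq G] [DecidableEq Ω] in
theorem kernel_conj_eq_one {g u : G} (hg : g ∉ stabilizer G a) (hu : u ∈ H)
    (h : g * u * g⁻¹ ∈ H) : u = 1 := by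
  by_contra h1
  apply hg
  have h2 : g * u * g⁻¹ ≠ 1 := fun h' => h1 (conj_eq_one_iff.1 h')
  exact hH.fix _ h h2 (g • a) (by simp [mul_smul, mem_stabilizer_iff.1 (hH.le hu)])

omit [DecidableEq G] [DecidableEq Ω] in
theorem kernel_ne_bot : ∃ u ∈ H, u ≠ 1 := by
  obtain ⟨g, _, c, d, hcd, -⟩ := hZ.2.2.2.1
  have h3 := three_le_card hZ hcd
  have : 1 < Nat.card H := by have := hH.card; omega
  obtain ⟨x, y, hxy⟩ := Finite.one_lt_card_iff_nontrivial.1 this
  by_cases hx : (x : G) = 1
  · exact ⟨y, y.2, fun h => hxy (Subtype.ext (hx.trans h.symm))⟩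
  · exact ⟨x, x.2, hx⟩

theorem normalizer_kernel :
    Subgroup.normalizer (H : Set G) = stabilizer G a := by
  ext g
  rw [Subgroup.mem_normalizer_iff]
  constructor
  · intro h
    by_contra hg
    obtain ⟨u, hu, hu1⟩ := kernel_ne_bot hZ hH
    exact hu1 (kernel_conj_eq_one hZ hH hg hu ((h u).1 hu))
  · intro hg u
    refine ⟨fun hu => kernel_normal hZ hH hg hu, fun hu => ?_⟩
    have := kernel_normal hZ hH (g := g⁻¹) (inv_smul_eq_iff.2 hg.symm) hu
    simpa [mul_assoc] using this

end Cfsg.Agent.CharDeep.Zass
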