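import Cfsg.Agent.CharDeep.ZassKernel
import Cfsg.Agent.CharDeep.FpfCyclic

/-!
Simple Zassenhaus groups whose two-point stabilisers have odd order: these stabilisers are cyclic
and inverted by every element interchanging the two points.
-/

set_option autoImplicit false

namespace Cfsg.Agent.CharDeep.Zass

open MulAction

variable {G Ω : Type*} [Group G] [MulAction G Ω]

theorem not_commutative (hZ : Cfsg.IsZassenhausGroup G Ω) : ¬ ∀ x y : G, x * y = y * x := by
  intro hc
  obtain ⟨g, hg, c, d, hcd, hgc, -⟩ := hZ.2.2.2.1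
  have := pretransitive hZ
  have := hZ.1
  refine hg (eq_of_smul_eq_smul fun e : Ω => ?_)
  obtain ⟨k, rfl⟩ := MulAction.exists_smul_eq G c e
  rw [one_smul, ← mul_smul, hc, mul_smul, hgc]

theorem hom_eq_one [IsSimpleGroup G] (hZ : Cfsg.IsZassenhausGroup G Ω) {A : Type*} [CommGroup A]
    (f : G →* A) (g : G) : f g = 1 := by
  rcases Subgroup.Normal.eq_bot_or_eq_top (inferInstance : f.ker.Normal) with h | h
  · exfalso
    refine not_commutative hZ fun x y => ?_
    refine (MonoidHom.ker_eq_bot_iff f).1 h ?_
    rw [map_mul, map_mul, mul_comm]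
  · exact MonoidHom.mem_ker.1 (h ▸ Subgroup.mem_top g)

theorem conj_swap_mem {a b : Ω} {w x : G} (hw : w • a = b ∧ w • b = a) (hx : x ∈ two G a b) :
    w * x * w⁻¹ ∈ two G a b := by
  have := (conj_mem_two (g := w) (x := x) (a := a) (b := b)).2 hx
  rwa [hw.1, hw.2, two_comm] at this

variable [Finite G] [IsSimpleGroup G] (hZ : Cfsg.IsZassenhausGroup G Ω)

include hZ

/-- The transfer argument: a homomorphism of a two-point stabiliser of odd order into an abelian
group, invariant under an element interchanging the two points, is trivial. -/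
theorem invariant_hom_eq_one {a b : Ω} (hab : a ≠ b) (hodd : Odd (Nat.card ↥(two G a b)))
    {w : G} (hw : w • a = b ∧ w • b = a) {A : Type*} [CommGroup A] (f : two G a b →* A)
    (hinv : ∀ x y : two G a b, w * (x : G) * w⁻¹ = y → f y = f x) (x : two G a b) : f x = 1 := by
  classical
  have hE : (two G a b).FiniteIndex := inferInstance
  have h0 : MonoidHom.transfer f (x : G) = 1 := hom_eq_one hZ _ _
  have := Fintype.ofFinite (Quotient (orbitRel (Subgroup.zpowers (x : G)) (G ⧸ two G a b)))
  rw [MonoidHom.transfer_eq_prod_quotient_orbitRel_zpowers_quot] at h0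
  by_cases hx1 : (x : G) = 1
  · have : x = 1 := Subtype.ext hx1
    simp [this]
  -- the two singleton orbits
  set c1 : G ⧸ two G a b := QuotientGroup.mk (1 : G) with hc1
  set cw : G ⧸ two G a b := QuotientGroup.mk w with hcw
  have mem_iff : ∀ g : G, (x : G) • (QuotientGroup.mk g : G ⧸ two G a b) = QuotientGroup.mk g ↔
      g⁻¹ * x * g ∈ two G a b := by
    intro g
    change (QuotientGroup.mk ((x : G) * g) : G ⧸ two G a b) = QuotientGroup.mk g ↔ _
    rw [eq_comm, QuotientGroup.eq, mul_assoc]
  have hw' : w⁻¹ • a = b ∧ w⁻¹ • b = a := by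
    constructor <;> rw [inv_smul_eq_iff]
    · exact hw.2.symm
    · exact hw.1.symm
  have hf1 : (x : G) • c1 = c1 := (mem_iff 1).2 (by simp [x.2])
  have hfw : (x : G) • cw = cw := (mem_iff w).2 (by simpa using conj_swap_mem hw' x.2)
  have horb : ∀ c : G ⧸ two G a b, (x : G) • c = c →
      ∀ q : Quotient (orbitRel (Subgroup.zpowers (x : G)) (G ⧸ two G a b)),
        q = Quotient.mk'' c → q.out = c := by
    intro c hc q hq
    have h1 : Quotient.mk'' q.out = q := Quotient.out_eq' q
    rw [hq] at h1
    obtain ⟨⟨z, hz⟩, hzc⟩ := Quotient.eq''.1 h1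
    rw [← hq] at hzc
    obtain ⟨k, rfl⟩ := Subgroup.mem_zpowers_iff.1 hz
    have hzf : ((x : G) ^ k) • c = c := by
      have : (x : G) ∈ stabilizer G c := hc
      exact Subgroup.zpow_mem _ this k
    rw [← hzc]
    exact hzf
  set q1 : Quotient (orbitRel (Subgroup.zpowers (x : G)) (G ⧸ two G a b)) := Quotient.mk'' c1
    with hq1
  set qw : Quotient (orbitRel (Subgroup.zpowers (x : G)) (G ⧸ two G a b)) := Quotient.mk'' cw
    with hqw
  have hne : q1 ≠ qw := by
    intro h
    have e1 := horb c1 hf1 q1 rfl
    have e2 := horb cw hfw q1 (h.trans rfl)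
    have h2 : c1 = cw := e1.symm.trans e2
    rw [hc1, hcw, QuotientGroup.eq, inv_one, one_mul] at h2
    exact hab ((h2.1 : w • a = a).symm.trans hw.1)
  rw [Finset.prod_eq_mul q1 qw hne] at h0
  · -- compute both factors
    have key : ∀ (c : G ⧸ two G a b) (q : Quotient (orbitRel (Subgroup.zpowers (x : G))
        (G ⧸ two G a b))), q.out = c → (x : G) • c = c → ∀ g : G, c = QuotientGroup.mk g →
        ∀ y : two G a b, (y : G) = g⁻¹ * x * g →
          f ⟨q.out.out⁻¹ * (x : G) ^ Function.minimalPeriod ((x : G) • ·) q.out * q.out.out,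
            QuotientGroup.out_conj_pow_minimalPeriod_mem _ (x : G) q.out⟩ = f y := by
      intro c q hq hc g hg y hy
      have hm : Function.minimalPeriod ((x : G) • ·) q.out = 1 :=
        Function.minimalPeriod_eq_one_iff_isFixedPt.2 (by rw [hq]; exact hc)
      have hog : (QuotientGroup.mk q.out.out : G ⧸ two G a b) = QuotientGroup.mk g := by
        rw [QuotientGroup.out_eq', hq, hg]
      rw [QuotientGroup.eq] at hog
      have : (⟨q.out.out⁻¹ * (x : G) ^ Function.minimalPeriod ((x : G) • ·) q.out * q.out.out,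
            QuotientGroup.out_conj_pow_minimalPeriod_mem _ (x : G) q.out⟩ : two G a b)
          = ⟨_, hog⟩ * y * (⟨_, hog⟩)⁻¹ := by
        apply Subtype.ext
        simp only [Subgroup.coe_mul, Subgroup.coe_inv, hy, hm, pow_one]
        group
      rw [this, map_mul, map_mul, map_inv, mul_comm (f ⟨_, hog⟩) (f y), mul_inv_cancel_right]
    rw [key c1 q1 (horb c1 hf1 q1 rfl) hf1 1 hc1 x (by simp),
      key cw qw (horb cw hfw qw rfl) hfw w hcw ⟨w⁻¹ * x * w, by simpa using conj_swap_mem hw' x.2⟩ rfl,
      ← hinv ⟨w⁻¹ * x * w, by simpa using conj_swap_mem hw' x.2⟩ x (by simp [mul_assoc])] at h0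
    refine orderOf_eq_one_iff.1 (Nat.eq_one_of_dvd_coprimes ?_ ((orderOf_map_dvd f x).trans
      (orderOf_dvd_natCard x)) (orderOf_dvd_of_pow_eq_one ((pow_two (f x)).trans h0)))
    exact (Nat.coprime_two_right.2 hodd)
  · -- all other orbits contribute `1`
    intro q _ hq
    have hmem := QuotientGroup.out_conj_pow_minimalPeriod_mem (two G a b) (x : G) q.out
    by_cases h1 : (x : G) ^ Function.minimalPeriod ((x : G) • ·) q.out = 1
    · rw [show (⟨_, hmem⟩ : two G a b) = 1 from Subtype.ext (by simp [h1]), map_one]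
    exfalso
    set y := q.out.out⁻¹ * (x : G) ^ Function.minimalPeriod ((x : G) • ·) q.out * q.out.out
      with hy
    have hz : (x : G) ^ Function.minimalPeriod ((x : G) • ·) q.out ∈ two G a b :=
      (two G a b).pow_mem x.2 _
    have hyy : q.out.out * y * q.out.out⁻¹ = (x : G) ^ Function.minimalPeriod ((x : G) • ·) q.out := by
      rw [hy]; group
    have hy' := (conj_mem_two (g := q.out.out) (a := a) (b := b)).2 hmem
    rw [hyy] at hy'
    have hgn : q.out.out ∈ Subgroup.normalizer (two G a b : Set G) := by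
      rw [normalizer_two_iff hZ hab]
      have hne2 : q.out.out • a ≠ q.out.out • b := fun h => hab (MulAction.injective _ h)
      rcases fixed_of_mem_two hZ hab hz h1 hy'.1 with ha | ha <;>
        rcases fixed_of_mem_two hZ hab hz h1 hy'.2 with hb | hb
      · exact absurd (ha.trans hb.symm) hne2
      · exact Or.inl ⟨ha, hb⟩
      · exact Or.inr ⟨ha, hb⟩
      · exact absurd (ha.trans hb.symm) hne2
    rcases (normalizer_two_iff hZ hab).1 hgn with hg | hg
    · refine hq.1 ((Quotient.out_eq' q).symm.trans (congrArg Quotient.mk'' ?_))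
      rw [← QuotientGroup.out_eq' q.out, hc1, QuotientGroup.eq, mul_one]
      exact inv_mem (show q.out.out ∈ two G a b from hg)
    · refine hq.2 ((Quotient.out_eq' q).symm.trans (congrArg Quotient.mk'' ?_))
      rw [← QuotientGroup.out_eq' q.out, hcw, QuotientGroup.eq]
      have : q.out.out⁻¹ • a = b ∧ q.out.out⁻¹ • b = a := by
        constructor <;> rw [inv_smul_eq_iff]
        · exact hg.2.symm
        · exact hg.1.symm
      exact swap_mul_mem this hw
  · simp
  · simp

end Cfsg.Agent.CharDeep.Zass

namespace Cfsg.Agent.CharDeep.Zass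

open MulAction

variable {G Ω : Type*} [Group G] [Fintype G] [MulAction G Ω] [Fintype Ω] [DecidableEq G]
  [DecidableEq Ω] (hZ : Cfsg.IsZassenhausGroup G Ω) {a b : Ω} (hab : a ≠ b) {H : Subgroup G}
  (hH : IsKernel a H)

include hZ hab hH

omit [DecidableEq G] [DecidableEq Ω] in
theorem kernel_inf_two {u : G} (hu : u ∈ H) (hu' : u • b = b) : u = 1 := by
  by_contra h
  exact hab (hH.fix u hu h b hu').symm

omit [DecidableEq G] [DecidableEq Ω] in
theorem kernel_fpf {x u : G} (hx : x ∈ two G a b) (hx1 : x ≠ 1) (hu : u ∈ H)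
    (hc : x * u * x⁻¹ = u) : u = 1 := by
  by_contra h
  have hx' : x • (u • b) = u • b := by
    rw [← mul_smul, mul_inv_eq_iff_eq_mul.1 hc, mul_smul, (mem_two.1 hx).2]
  rcases fixed_of_mem_two hZ hab hx hx1 hx' with h1 | h1
  · have : u • b = u • a := h1.trans (mem_stabilizer_iff.1 (hH.le hu)).symm
    exact hab (MulAction.injective u this).symm
  · exact h (kernel_inf_two hZ hab hH hu h1)

/-- The kernel is regular on the remaining points. -/
theorem kernel_regular {c : Ω} (hc : c ≠ a) : ∃ u ∈ H, u • b = c := by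
  classical
  set S := (Finset.univ.filter fun g : G => g ∈ H).image (fun g => g • b)
  have hsub : S ⊆ Finset.univ.erase a := by
    intro d hd
    simp only [S, Finset.mem_image, Finset.mem_filter, Finset.mem_univ, true_and] at hd
    obtain ⟨u, hu, rfl⟩ := hd
    simp only [Finset.mem_erase, Finset.mem_univ, and_true]
    intro h
    exact hab (MulAction.injective u (h.trans (mem_stabilizer_iff.1 (hH.le hu)).symm)).symm
  have hcard : S.card = Nat.card H := by
    rw [Finset.card_image_of_injOn, ← Fintype.card_subtype, ← Nat.card_eq_fintype_card]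
    intro u hu v hv huv
    simp only [Finset.coe_filter, Finset.mem_univ, true_and, Set.mem_setOf_eq] at hu hv
    have huv' : u • b = v • b := huv
    have : u⁻¹ * v = 1 := kernel_inf_two hZ hab hH (H.mul_mem (H.inv_mem hu) hv)
      (by rw [mul_smul, inv_smul_eq_iff, huv'])
    exact (inv_mul_eq_one.1 this)
  have heq := Finset.eq_of_subset_of_card_le hsub (by
    rw [hcard, Finset.card_erase_of_mem (Finset.mem_univ a), Finset.card_univ, ← hH.card]
    omega)
  have : c ∈ S := by rw [heq]; simp [hc]
  simpa [S] using this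

theorem exists_kernel_mul {g : G} (hg : g • a = a) : ∃ u ∈ H, ∃ x ∈ two G a b, g = u * x := by
  have hgb : g • b ≠ a := fun h => hab (MulAction.injective g (h.trans hg.symm)).symm
  obtain ⟨u, hu, hub⟩ := kernel_regular hZ hab hH hgb
  refine ⟨u, hu, u⁻¹ * g, ⟨?_, ?_⟩, by group⟩
  · change (u⁻¹ * g) • a = a
    rw [mul_smul, hg, inv_smul_eq_iff, mem_stabilizer_iff.1 (hH.le hu)]
  · change (u⁻¹ * g) • b = b
    rw [mul_smul, inv_smul_eq_iff, hub]

/-- Conjugation action of the two-point stabiliser on the kernel. -/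
@[instance_reducible] def twoAct : MulDistribMulAction (two G a b) H where
  smul x u := ⟨(x : G) * u * (x : G)⁻¹, kernel_normal hZ hH x.2.1 u.2⟩
  one_smul u := by ext; simp [HSMul.hSMul]
  mul_smul x y u := by ext; simp [HSMul.hSMul, mul_assoc]
  smul_mul x u v := by ext; simp [HSMul.hSMul, mul_assoc]
  smul_one x := by ext; simp [HSMul.hSMul]

theorem kernel_coprime : (Nat.card ↥(two G a b)).Coprime (Nat.card H) := by
  let := twoAct (b := b) hZ hH
  refine Nat.coprime_of_dvd fun p hp hpE hpH => ?_
  have := Fact.mk hp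
  obtain ⟨x, hx⟩ := exists_prime_orderOf_dvd_card' p hpE
  have hP : IsPGroup p (Subgroup.zpowers x) := IsPGroup.of_card (n := 1)
    (by rw [Nat.card_zpowers, hx, pow_one])
  have h1 := (hP.card_modEq_card_fixedPoints H).symm.trans (Nat.modEq_zero_iff_dvd.2 hpH)
  have h2 : fixedPoints (Subgroup.zpowers x) H = {1} := by
    ext u
    simp only [mem_fixedPoints, Set.mem_singleton_iff]
    refine ⟨fun hu => ?_, fun hu y => by rw [hu]; exact smul_one y⟩
    have h3 : (x : G) * u * (x : G)⁻¹ = u :=
      congrArg Subtype.val (hu ⟨x, Subgroup.mem_zpowers x⟩)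
    refine Subtype.ext (kernel_fpf hZ hab hH x.2 (fun h => ?_) u.2 h3)
    rw [show x = 1 from Subtype.ext h, orderOf_one] at hx
    exact hp.ne_one hx.symm
  rw [h2, Nat.card_coe_set_eq, Set.ncard_singleton] at h1
  exact hp.ne_one (Nat.dvd_one.1 (Nat.modEq_zero_iff_dvd.1 h1))

variable (hodd : Odd (Nat.card ↥(two G a b)))

include hodd

theorem isZGroup_two : IsZGroup (two G a b) := by
  let := twoAct (b := b) hZ hH
  obtain ⟨u, hu, hu1⟩ := kernel_ne_bot hZ hH
  have : Nontrivial H := ⟨⟨⟨u, hu⟩, 1, fun h => hu1 (congrArg Subtype.val h)⟩⟩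
  refine isZGroup_of_fpf (K := H) hodd (kernel_coprime hZ hab hH) fun x hx1 v hv => ?_
  exact Subtype.ext (kernel_fpf hZ hab hH x.2 (fun h => hx1 (Subtype.ext h)) v.2
    (congrArg Subtype.val hv))

variable [IsSimpleGroup G]

theorem isCyclic_two : IsCyclic (two G a b) := by
  have hZG := isZGroup_two hZ hab hH hodd
  obtain ⟨w, hw⟩ := exists_swap hZ hab
  set M := Subgroup.normalizer (two G a b : Set G) with hM
  have hEM : two G a b ≤ M := Subgroup.le_normalizer
  have hMmem : ∀ g ∈ M, g * g ∈ two G a b := by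
    intro g hg
    rcases (normalizer_two_iff hZ hab).1 hg with h | h
    · exact (two G a b).mul_mem h h
    · exact swap_mul_mem h h
  have hwM : w ∈ M := (normalizer_two_iff hZ hab).2 (Or.inr hw)
  have hidx : ((two G a b).subgroupOf M).index = 2 := by
    rw [Subgroup.index_eq_two_iff]
    refine ⟨⟨w, hwM⟩, fun g => ?_⟩
    rcases (normalizer_two_iff hZ hab).1 g.2 with hg | hg
    · refine Or.inr ⟨hg, fun h => ?_⟩
      have h' : ((g : G) * w) • a = a := h.1
      rw [mul_smul, hw.1, hg.2] at h'
      exact hab h'.symm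
    · refine Or.inl ⟨swap_mul_mem hg hw, fun h => ?_⟩
      have h' : (g : G) • a = a := h.1
      rw [hg.1] at h'
      exact hab h'.symm
  have hcard : Nat.card M = 2 * Nat.card ↥(two G a b) := by
    have := ((two G a b).subgroupOf M).card_mul_index
    rw [hidx, Nat.card_congr (Subgroup.subgroupOfEquivOfLe hEM).toEquiv] at this
    omega
  have : IsZGroup M := by
    refine ⟨fun p hp P => ?_⟩
    have := Fact.mk hp
    by_cases hp2 : p = 2
    · subst hp2
      refine isCyclic_of_prime_card (p := 2) ?_
      rw [P.card_eq_multiplicity, hcard, Nat.factorization_mul (by norm_num) Nat.card_pos.ne',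
        Finsupp.add_apply, Nat.Prime.factorization_self Nat.prime_two,
        Nat.factorization_eq_zero_of_not_dvd
          (Nat.not_even_iff_odd.2 hodd ∘ even_iff_two_dvd.2)]
      norm_num
    · -- an odd Sylow subgroup lies in the two-point stabiliser
      have hle : ∀ x : M, x ∈ (P : Subgroup M) → (x : G) ∈ two G a b := by
        intro x hx
        have hsq : (x : G) * x ∈ two G a b := hMmem _ x.2
        obtain ⟨k, hk⟩ := P.2 ⟨x, hx⟩
        have hk' : (x : G) ^ (p ^ k) = 1 := by
          simpa using congrArg (fun z : (P : Subgroup M) => ((z : M) : G)) hk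
        obtain ⟨j, hj⟩ : Odd (p ^ k) := (hp.odd_of_ne_two hp2).pow
        have : (x : G) = ((x : G) * x) ^ (j + 1) := by
          rw [← pow_two, ← pow_mul, show 2 * (j + 1) = p ^ k + 1 by omega, pow_succ, hk', one_mul]
        rw [this]
        exact (two G a b).pow_mem hsq _
      let f : (P : Subgroup M) →* two G a b :=
        { toFun := fun x => ⟨((x : M) : G), hle x x.2⟩
          map_one' := rfl
          map_mul' := fun _ _ => rfl }
      have hfinj : Function.Injective f := fun x y h =>
        Subtype.ext (Subtype.ext (congrArg Subtype.val h :))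
      obtain ⟨Q, hQ⟩ :=
        (IsPGroup.of_surjective P.2 f.rangeRestrict f.rangeRestrict_surjective).exists_le_sylow
      let g : (P : Subgroup M) →* (Q : Subgroup (two G a b)) :=
        { toFun := fun x => ⟨f x, hQ ⟨x, rfl⟩⟩
          map_one' := Subtype.ext (map_one f)
          map_mul' := fun x y => Subtype.ext (map_mul f x y) }
      have hQc : IsCyclic (Q : Subgroup (two G a b)) := inferInstance
      exact isCyclic_of_injective g fun x y h => hfinj (congrArg Subtype.val h :)
  let i : two G a b →* M := Subgroup.inclusion hEM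
  have hkey : ∀ x, i x ∈ commutator M := by
    intro x
    have := invariant_hom_eq_one hZ hab hodd hw (Abelianization.of.comp i) (fun y z hyz => by
      have : i z = ⟨w, hwM⟩ * i y * ⟨w, hwM⟩⁻¹ := Subtype.ext hyz.symm
      simp only [MonoidHom.comp_apply, this, map_mul, map_inv]
      rw [mul_comm (Abelianization.of (⟨w, hwM⟩ : M)), mul_inv_cancel_right]) x
    rw [← Abelianization.ker_of]
    exact MonoidHom.mem_ker.2 this
  have := IsZGroup.isCyclic_commutator M
  exact isCyclic_of_injective (i.codRestrict (commutator M) hkey)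
    fun x y h => Subgroup.inclusion_injective hEM (congrArg Subtype.val h :)

theorem commute_two {x y : G} (hx : x ∈ two G a b) (hy : y ∈ two G a b) : x * y = y * x := by
  have := isCyclic_two hZ hab hH hodd
  obtain ⟨g, hg⟩ := IsCyclic.exists_generator (α := two G a b)
  obtain ⟨i, hi⟩ := Subgroup.mem_zpowers_iff.1 (hg ⟨x, hx⟩)
  obtain ⟨j, hj⟩ := Subgroup.mem_zpowers_iff.1 (hg ⟨y, hy⟩)
  have := congrArg Subtype.val ((Commute.zpow_zpow_self g i j).eq)
  rw [hi, hj] at this
  exact this

/-- Every element interchanging two points inverts their stabiliser. -/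
theorem swap_inverts {w : G} (hw : w • a = b ∧ w • b = a) {x : G} (hx : x ∈ two G a b) :
    w * x * w⁻¹ = x⁻¹ := by
  let : CommGroup (two G a b) :=
    { (inferInstance : Group (two G a b)) with
      mul_comm := fun y z => Subtype.ext (commute_two hZ hab hH hodd y.2 z.2) }
  let c : two G a b →* two G a b :=
    { toFun := fun y => ⟨w * y * w⁻¹, conj_swap_mem hw y.2⟩
      map_one' := Subtype.ext (by simp)
      map_mul' := fun y z => Subtype.ext (by simp [mul_assoc]) }
  have hcc : ∀ y, c (c y) = y := by
    intro y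
    apply Subtype.ext
    change w * (w * (y : G) * w⁻¹) * w⁻¹ = y
    have := commute_two hZ hab hH hodd (swap_mul_mem hw hw) y.2
    calc w * (w * (y : G) * w⁻¹) * w⁻¹ = (w * w) * y * (w * w)⁻¹ := by group
      _ = y := by rw [this, mul_inv_cancel_right]
  let f : two G a b →* two G a b :=
    { toFun := fun y => y * c y
      map_one' := by rw [map_one, mul_one]
      map_mul' := fun y z => by rw [map_mul]; exact mul_mul_mul_comm _ _ _ _ }
  have h1 := invariant_hom_eq_one hZ hab hodd hw f (fun y z hyz => by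
    have hcy : z = c y := Subtype.ext hyz.symm
    change z * c z = y * c y
    rw [hcy, hcc, mul_comm]) ⟨x, hx⟩
  have h2 : x * (w * x * w⁻¹) = 1 := congrArg Subtype.val h1
  exact (inv_eq_of_mul_eq_one_right h2).symm

end Cfsg.Agent.CharDeep.Zass
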